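import Groth.Agent.EtPBCProperLib.Effacement
import Groth.Agent.EtExtLib.SepClosed
import Groth.Agent.CdCurveLib.Field
import Groth.Agent.GmTorsLib.Main
import Groth.Agent.JacTorsLib.Et
import Groth.Agent.AsCohLib.Main
import Groth.Agent.S0642

/-!
# Curves over separably closed fields
-/

set_option autoImplicit false
set_option linter.unusedSectionVars false
set_option linter.style.haveILetI false
set_option backward.isDefEq.respectTransparency false
set_option backward.isDefEq.respectTransparency.types false
set_option maxHeartbeats 1000000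
set_option synthInstance.maxHeartbeats 400000

universe u

open CategoryTheory CategoryTheory.Limits CategoryTheory.Abelian AlgebraicGeometry Opposite
open Groth.Agent Groth.Agent.EtShLib

attribute [local instance] EtSliceLib.pullExact

noncomputable section

namespace EtPBCProperLib

theorem cohDimLE_of_homeo {B X : Scheme.{u}} (a : B ⟶ X) [IsIntegralHom a] [UniversallyInjective a] [Surjective a]
    {d : ℕ} (h : EtCoh.CohDimLE B d) : EtCoh.CohDimLE X d := fun F hF q hq =>
  @Function.Injective.subsingleton _ _ _ (Groth.Agent.S0642.result a F q).1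
    (h _ (CdCurveLib.isTorsion_pull_map a hF) q hq)

variable {k : Type u} [Field k] [IsSepClosed k] {X : Scheme.{u}} (f : X ⟶ Spec (CommRingCat.of k))
  [LocallyOfFiniteType f]

include f in
theorem cohDimLE_residue (hdim : topologicalKrullDim X ≤ 1) (x : X) :
    EtCoh.CohDimLE (Spec (X.residueField x)) 1 := by
  let kb := AlgebraicClosure k
  obtain ⟨i₁, i₂, i₃⟩ := EtExtLib.universalHomeo_spR k kb
  let a := pullback.fst f (FEtProper.spR k kb)
  let fb := pullback.snd f (FEtProper.spR k kb)
  haveI : IsIntegralHom a := MorphismProperty.pullback_fst _ _ i₁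
  haveI : UniversallyInjective a := MorphismProperty.pullback_fst _ _ i₂
  haveI : Surjective a := MorphismProperty.pullback_fst _ _ i₃
  have hdimb : topologicalKrullDim ↥(pullback f (FEtProper.spR k kb)) ≤ 1 :=
    (FibDimLib.topologicalKrullDim_pullback_field k kb f).trans_le hdim
  obtain ⟨xb, hxb⟩ := a.surjective x
  subst hxb
  let j := X.fromSpecResidueField (a.base xb)
  let jb := (pullback f (FEtProper.spR k kb)).fromSpecResidueField xb
  let pr := pullback.snd a j
  haveI : IsIntegralHom pr := inferInstance
  haveI : UniversallyInjective pr := MorphismProperty.pullback_snd _ _ ‹UniversallyInjective a›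
  haveI : Surjective pr := inferInstance
  let g : Spec ((pullback f (FEtProper.spR k kb)).residueField xb) ⟶ pullback a j :=
    pullback.lift jb (Spec.map (a.residueFieldMap xb)) (Scheme.Hom.SpecMap_residueFieldMap_fromSpecResidueField a xb).symm
  haveI : IsPreimmersion (g ≫ pullback.fst a j) := by rw [pullback.lift_fst]; infer_instance
  haveI : IsPreimmersion g := IsPreimmersion.of_comp g (pullback.fst a j)
  haveI : Subsingleton ↥(pullback a j) := ⟨fun p q => pr.injective (Subsingleton.elim _ _)⟩
  haveI : Surjective g := ⟨fun p => ⟨default, Subsingleton.elim _ _⟩⟩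
  haveI : IsClosedImmersion g := IsClosedImmersion.of_isPreimmersion g (by
    rw [g.surjective.range_eq]; exact isClosed_univ)
  haveI : IsIntegralHom (g ≫ pr) := inferInstance
  haveI : UniversallyInjective g := inferInstance
  haveI : UniversallyInjective (g ≫ pr) := MorphismProperty.comp_mem _ g pr ‹_› ‹_›
  haveI : Surjective (g ≫ pr) := inferInstance
  exact cohDimLE_of_homeo (g ≫ pr) (CdCurveLib.cohDimLE_residueField fb hdimb xb)

include f in
theorem cohDimLE_two [QuasiCompact f] (hdim : topologicalKrullDim X ≤ 1) : EtCoh.CohDimLE X 2 := by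
  let kb := AlgebraicClosure k
  obtain ⟨i₁, i₂, i₃⟩ := EtExtLib.universalHomeo_spR k kb
  let a := pullback.fst f (FEtProper.spR k kb)
  haveI : IsIntegralHom a := MorphismProperty.pullback_fst _ _ i₁
  haveI : UniversallyInjective a := MorphismProperty.pullback_fst _ _ i₂
  haveI : Surjective a := MorphismProperty.pullback_fst _ _ i₃
  exact cohDimLE_of_homeo a (CdCurveLib.cohDimLE_two_curve (pullback.snd f (FEtProper.spR k kb))
    ((FibDimLib.topologicalKrullDim_pullback_field k kb f).trans_le hdim))

include f in
/-- No torsion prime to the characteristic in the Brauer group. -/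
theorem eq_zero_brCoh [QuasiCompact f] (hdim : topologicalKrullDim X ≤ 1) (n : ℕ) (hn : (n : k) ≠ 0)
    (ξ : EtCoh.H X (EtCoh.Gm X) 2) (hξ : n • ξ = 0) : ξ = 0 := by
  haveI : IsLocallyNoetherian X := LocallyOfFiniteType.isLocallyNoetherian f
  haveI : CompactSpace X := QuasiCompact.compactSpace_of_compactSpace f
  haveI : IsNoetherian X := { }
  induction n using induction_on_primes generalizing ξ with
  | zero => exact absurd Nat.cast_zero hn
  | one => rwa [one_smul] at hξ
  | prime_mul p a hp ih =>
    rw [Nat.cast_mul] at hn
    refine ih (right_ne_zero_of_mul hn) ξ ?_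
    rw [mul_smul] at hξ
    refine GmTorsLib.eq_zero_H_Gm hdim p hp (JacTorsLib.invertibleOn_of_field f (left_ne_zero_of_mul hn))
      (fun x _ => fun F hF q hq => cohDimLE_residue f hdim x F (fun U s y => ?_) q hq)
      (fun x hx => SkySumLib.isSepClosed_residueField f x hx) 2 le_rfl _ 1 (by rw [pow_one]; exact hξ)
    obtain ⟨V, g, hv, e, he⟩ := hF U s y
    exact ⟨V, g, hv, isOfFinAddOrder_iff_nsmul_eq_zero.2 ⟨p ^ e, pow_pos hp.pos e, he⟩⟩

end EtPBCProperLib

end
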