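import Groth.Agent.EtPBCProperLib.Criterion
import Groth.Agent.EtStrictAcycLib.Main
import Groth.Agent.EtProperH0Lib.Main
import Groth.Agent.S0620
import Groth.Agent.S14451
import Groth.Agent.S0642
import Groth.Agent.EtExtLib.Spec

/-!
# Composition and descent along surjections
-/

set_option autoImplicit false
set_option linter.unusedSectionVars false
set_option linter.style.haveILetI false
set_option backward.isDefEq.respectTransparency false
set_option backward.isDefEq.respectTransparency.types false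
set_option maxHeartbeats 1000000
set_option synthInstance.maxHeartbeats 400000

universe u

open CategoryTheory CategoryTheory.Limits CategoryTheory.Abelian AlgebraicGeometry Opposite
open Groth.Agent Groth.Agent.EtShLib DescSecLib EtSliceLib

attribute [local instance] EtSliceLib.pullExact CategoryTheory.Abelian.hasFiniteBiproducts

noncomputable section

namespace EtPBCProperLib

variable {X Y : Scheme.{u}}

theorem isSepClosed_quotient (R : Type u) [CommRing R] [IsLocalRing R] [h : IsSepClosed (IsLocalRing.ResidueField R)] :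
    @IsSepClosed (R ⧸ IsLocalRing.maximalIdeal R) (Ideal.Quotient.field _) := h

theorem subsingleton_H_via {A B C : Scheme.{u}} (a : A ⟶ B) (b : B ⟶ C) (c : A ⟶ C) (w : a ≫ b = c)
    (G : EtCoh.Ab C) (q : ℕ) :
    Subsingleton (EtCoh.H A ((EtCoh.pull a).obj ((EtCoh.pull b).obj G)) q) ↔
      Subsingleton (EtCoh.H A ((EtCoh.pull c).obj G) q) :=
  ((EtCoh.HF A q).mapIso (((EtCore.pullComp a b).symm ≪≫ EtCore.pullCongr w).app G)).addCommGroupIsoToAddEquiv.toEquiv.subsingleton_congr

theorem subsingleton_H_homeo {A B C : Scheme.{u}} (a : A ⟶ B) [IsIntegralHom a] [UniversallyInjective a] [Surjective a]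
    (b : B ⟶ C) (c : A ⟶ C) (w : a ≫ b = c) (G : EtCoh.Ab C) (q : ℕ) :
    Subsingleton (EtCoh.H B ((EtCoh.pull b).obj G) q) ↔ Subsingleton (EtCoh.H A ((EtCoh.pull c).obj G) q) :=
  (Equiv.ofBijective _ (Groth.Agent.S0642.result a ((EtCoh.pull b).obj G) q)).subsingleton_congr.trans
    (subsingleton_H_via a b c w G q)

theorem residueFieldMap_surjective (i : X ⟶ Y) [IsClosedImmersion i] (y : X) :
    Function.Surjective (i.residueFieldMap y).hom := fun a => by
  obtain ⟨b, rfl⟩ := IsLocalRing.residue_surjective (R := X.presheaf.stalk y) a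
  obtain ⟨c, rfl⟩ := i.stalkMap_surjective y b
  exact ⟨IsLocalRing.residue _ c, rfl⟩

theorem geomPt_base (S : Scheme.{u}) (s : S) (R : Type u) [CommRing R] [IsLocalRing R]
    [Algebra (S.presheaf.stalk s) R] [IsLocalHom (algebraMap (S.presheaf.stalk s) R)]
    (p : Spec (CommRingCat.of (IsLocalRing.ResidueField R))) : (Hens2.geomPt S s R).base p = s := by
  rw [Subsingleton.elim p (IsLocalRing.closedPoint (IsLocalRing.ResidueField R))]
  refine Eq.trans ?_ (EtStrictAcycLib.specOf_closedPoint S s R)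
  exact congrArg (Hens2.specOf S s R).base (IsLocalRing.comap_closedPoint (IsLocalRing.residue R))

/-- Vanishing of the stalk depends only on the point. -/
theorem subsingleton_stk_of_base {F : EtCoh.Ab X} {Ω₁ : Type u} [Field Ω₁] [IsSepClosed Ω₁]
    (a : Spec (CommRingCat.of Ω₁) ⟶ X) (h : Subsingleton ((stk (A := AddCommGrpCat.{u + 1}) a).obj F))
    {Ω : Type u} [Field Ω] [IsSepClosed Ω] (ξ : Spec (CommRingCat.of Ω) ⟶ X)
    (hξ : ξ.base default = a.base default) : Subsingleton ((stk (A := AddCommGrpCat.{u + 1}) ξ).obj F) := by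
  refine subsingleton_of_forall_eq 0 fun p => ?_
  obtain ⟨U, u, s, rfl⟩ := exists_germ ξ p
  obtain ⟨v, hv⟩ := exists_fib a U u.pt (by
    show (u.hom ≫ U.hom).base default = _
    rw [u.w]
    exact hξ)
  obtain ⟨V, g, v', hv', he⟩ := (germ_eq_iff (A := AddCommGrpCat.{u + 1}) a U v s 0).1 (Subsingleton.elim _ _)
  haveI : AlgebraicGeometry.Etale g.left := etale_left g
  obtain ⟨l, hl, -⟩ := Scheme.exists_fac_of_etale_of_isSepClosed g.left u.hom v'.pt
    ((congrArg (fun t : Fib a U => t.pt) hv').trans hv)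
  let w : Fib ξ V := Fib.mk l (by
    rw [← (show g.left ≫ U.hom = V.hom from MorphismProperty.Over.w g), ← Category.assoc, hl]
    exact u.w)
  rw [← (show w.map g = u from Fib.ext hl), ← germ_res_apply, he, map_zero, map_zero]

theorem isZero_of_geomPt_stalks (G : EtCoh.Ab Y)
    (h : ∀ y : Y, ∃ (R : Type u) (_ : CommRing R) (_ : IsLocalRing R) (_ : Algebra (Y.presheaf.stalk y) R)
      (_ : IsLocalHom (algebraMap (Y.presheaf.stalk y) R)) (_ : IsSepClosed (IsLocalRing.ResidueField R)),
      Subsingleton ((EtCoh.stalk (Hens2.geomPt Y y R)).obj G)) : IsZero G := by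
  let Z : EtCoh.Ab Y := kernel (𝟙 G)
  have hz : IsZero Z := isZero_kernel_of_mono _
  haveI : IsIso (0 : Z ⟶ G) := isIso_of_stalks _ fun Ω _ _ ξ => by
    obtain ⟨R, _, _, _, _, _, hs⟩ := h (ξ.base default)
    have h1 : Subsingleton ((stk (A := AddCommGrpCat.{u + 1}) ξ).obj G) :=
      subsingleton_stk_of_base (Hens2.geomPt Y (ξ.base default) R) hs ξ (geomPt_base Y _ R default).symm
    haveI : Subsingleton ((stk (A := AddCommGrpCat.{u + 1}) ξ).obj Z) :=
      AddCommGrpCat.subsingleton_of_isZero ((stk (A := AddCommGrpCat.{u + 1}) ξ).map_isZero hz)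
    exact (ConcreteCategory.isIso_iff_bijective _).2
      ⟨fun a b _ => Subsingleton.elim a b, fun b => ⟨0, h1.elim _ _⟩⟩
  exact IsZero.of_iso hz (asIso (0 : Z ⟶ G)).symm

/-- A strict henselization and a geometric point over the same point. -/
theorem exists_sh_geomPt (Y : Scheme.{u}) (y : Y) (R : Type u) [CommRing R] [IsLocalRing R]
    [Algebra (Y.presheaf.stalk y) R] [IsLocalHom (algebraMap (Y.presheaf.stalk y) R)]
    [Hensel.IsStrictHenselization (Y.presheaf.stalk y) R]
    (Ω : Type u) [Field Ω] [IsSepClosed Ω] [Algebra (Y.residueField y) Ω] [Algebra.IsAlgebraic (Y.residueField y) Ω] :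
    ∃ b : Spec (CommRingCat.of Ω) ⟶ Spec (CommRingCat.of (R ⧸ IsLocalRing.maximalIdeal R)),
      IsIntegralHom b ∧ UniversallyInjective b ∧ Surjective b ∧
        b ≫ cp R ≫ Hens2.specOf Y y R = EtAcyc.geomPt Y y Ω := by
  obtain ⟨τ, hint, hinj, hτ⟩ :
      ∃ τ : IsLocalRing.ResidueField R →+* Ω, τ.IsIntegral ∧ UniversallyInjective (Spec.map (CommRingCat.ofHom τ)) ∧
        ∀ z : Y.presheaf.stalk y, τ (IsLocalRing.residue R (algebraMap (Y.presheaf.stalk y) R z)) =
          algebraMap (Y.residueField y) Ω (IsLocalRing.residue (Y.presheaf.stalk y) z) :=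
    @EtStrictAcycLib.exists_residue_lift (Y.presheaf.stalk y) R _ _ _ _ _ _ _ Ω _ _ ‹Algebra (Y.residueField y) Ω› ‹_›
  refine ⟨Spec.map (CommRingCat.ofHom τ), IsIntegralHom.SpecMap_iff.2 hint, hinj,
    ⟨fun x => ⟨default, Subsingleton.elim (α := PrimeSpectrum (IsLocalRing.ResidueField R)) _ _⟩⟩, ?_⟩
  show Spec.map _ ≫ Spec.map _ ≫ Spec.map _ ≫ Y.fromSpecStalk y =
    Spec.map _ ≫ Spec.map (Y.residue y) ≫ Y.fromSpecStalk y
  rw [← Spec.map_comp_assoc, ← Spec.map_comp_assoc, ← Spec.map_comp_assoc]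
  exact congrArg (fun t => Spec.map t ≫ Y.fromSpecStalk y) (CommRingCat.hom_ext (RingHom.ext fun z => hτ z))

/-- For a `Good` proper map the cohomology of the strict localization is that of a geometric fibre. -/
theorem subsingleton_sh_iff {h : X ⟶ Y} [IsProper h] (hh : Good h) (y : Y) (R : Type u) [CommRing R] [IsLocalRing R]
    [Algebra (Y.presheaf.stalk y) R] [IsLocalHom (algebraMap (Y.presheaf.stalk y) R)]
    [Hensel.IsStrictHenselization (Y.presheaf.stalk y) R]
    (Ω : Type u) [Field Ω] [IsSepClosed Ω] [Algebra (Y.residueField y) Ω] [Algebra.IsAlgebraic (Y.residueField y) Ω]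
    (F : EtCoh.Ab X) (hF : EtCoh.IsTorsion F) (q : ℕ) :
    Subsingleton (EtCoh.H (pullback h (Hens2.specOf Y y R)) ((EtCoh.pull (pullback.fst h (Hens2.specOf Y y R))).obj F) q) ↔
      Subsingleton (EtCoh.H (pullback h (EtAcyc.geomPt Y y Ω)) ((EtCoh.pull (pullback.fst h (EtAcyc.geomPt Y y Ω))).obj F) q) := by
  have hS : Hensel.IsStrictHenselization (Y.presheaf.stalk y) R := inferInstance
  haveI := hS.henselian
  haveI : IsSepClosed (IsLocalRing.ResidueField R) := hS.isSepClosure.sep_closed
  let sR := Hens2.specOf Y y R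
  let hR := pullback.snd h sR
  have hV : Van R hR := hh R _ _ hR sR (IsPullback.of_hasPullback h sR)
  have hb := bijective_of_van R hR hV _ (CdCurveLib.isTorsion_pull_map (pullback.fst h sR) hF) q
  obtain ⟨b, hb₁, hb₂, hb₃, hb₄⟩ := exists_sh_geomPt Y y R Ω
  let s := cp R ≫ sR
  let e : pullback hR (cp R) ⟶ X := pullback.fst hR (cp R) ≫ pullback.fst h sR
  have hsq : IsPullback e (pullback.snd hR (cp R)) h s :=
    (IsPullback.of_hasPullback hR (cp R)).paste_horiz (IsPullback.of_hasPullback h sR)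
  let u : pullback h (EtAcyc.geomPt Y y Ω) ⟶ pullback hR (cp R) :=
    hsq.lift (pullback.fst h _) (pullback.snd h _ ≫ b) (by
      rw [pullback.condition, ← hb₄, Category.assoc])
  have hu : IsPullback u (pullback.snd h (EtAcyc.geomPt Y y Ω)) (pullback.snd hR (cp R)) b :=
    IsPullback.of_right (by rw [hsq.lift_fst, show b ≫ s = EtAcyc.geomPt Y y Ω from hb₄]; exact IsPullback.of_hasPullback h _)
      (hsq.lift_snd _ _ _) hsq
  haveI : IsIntegralHom u := MorphismProperty.of_isPullback hu.flip hb₁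
  haveI : UniversallyInjective u := MorphismProperty.of_isPullback hu.flip hb₂
  haveI : Surjective u := MorphismProperty.of_isPullback hu.flip hb₃
  refine ((Equiv.ofBijective _ hb).subsingleton_congr).trans
    ((subsingleton_H_via (pullback.fst hR (cp R)) (pullback.fst h sR) e rfl F q).trans ?_)
  exact subsingleton_H_homeo u e (pullback.fst h (EtAcyc.geomPt Y y Ω)) (hsq.lift_fst _ _ _) F q

/-- The geometric fibres of a `Good` proper map kill the effacing sheaves. -/
theorem subsingleton_geomFibre {h : X ⟶ Y} [IsProper h] (hh : Good h) (J : EtCoh.Ab X) [Injective J] {n : ℕ}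
    (hn : 0 < n) (q : ℕ) (hq : 0 < q) (y : Y)
    (Ω : Type u) [Field Ω] [IsSepClosed Ω] [Algebra (Y.residueField y) Ω] [Algebra.IsAlgebraic (Y.residueField y) Ω] :
    Subsingleton (EtCoh.H (pullback h (EtAcyc.geomPt Y y Ω))
      ((EtCoh.pull (pullback.fst h (EtAcyc.geomPt Y y Ω))).obj (nTor J n)) q) := by
  let R := HenselLib.SH (Y.presheaf.stalk y)
  have hS : Hensel.IsStrictHenselization (Y.presheaf.stalk y) R := inferInstance
  haveI := hS.henselian
  haveI : IsSepClosed (IsLocalRing.ResidueField R) := hS.isSepClosure.sep_closed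
  refine (subsingleton_sh_iff hh y R Ω _ (isTorsion_of_nsmul hn (nsmul_nTor J n)) q).1 ?_
  obtain ⟨e⟩ := Groth.Agent.S0620.result h (nTor J n) y R q
  haveI : Subsingleton ((EtCoh.stalk (Hens2.geomPt Y y R)).obj ((EtCoh.Rpush h q).obj (nTor J n))) :=
    AddCommGrpCat.subsingleton_of_isZero ((EtCoh.stalk (Hens2.geomPt Y y R)).map_isZero (isZero_Rpush_nTor h J hn q hq))
  exact e.addCommGroupIsoToAddEquiv.toEquiv.subsingleton_congr.1 inferInstance

/-- The effacing sheaves are acyclic for the direct image on a closed subscheme. -/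
theorem isZero_Rpush_pull {h : X ⟶ Y} [IsProper h] (hh : Good h) {X₀ Y₀ : Scheme.{u}} (i : Y₀ ⟶ Y)
    [IsClosedImmersion i] (i' : X₀ ⟶ X) (h₀ : X₀ ⟶ Y₀) (hc : IsPullback i' h₀ h i) (J : EtCoh.Ab X) [Injective J]
    {n : ℕ} (hn : 0 < n) (q : ℕ) (hq : 0 < q) :
    IsZero ((EtCoh.Rpush h₀ q).obj ((EtCoh.pull i').obj (nTor J n))) := by
  haveI : IsProper h₀ := MorphismProperty.of_isPullback hc inferInstance
  have hh₀ : Good h₀ := fun A _ _ _ X' g' f' g hp => hh A X' (g' ≫ i') f' (g ≫ i) (hp.paste_horiz hc)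
  refine isZero_of_geomPt_stalks _ fun y => ?_
  let R := HenselLib.SH (Y₀.presheaf.stalk y)
  have hS : Hensel.IsStrictHenselization (Y₀.presheaf.stalk y) R := inferInstance
  haveI := hS.henselian
  haveI : IsSepClosed (IsLocalRing.ResidueField R) := hS.isSepClosure.sep_closed
  refine ⟨R, inferInstance, inferInstance, inferInstance, inferInstance, inferInstance, ?_⟩
  obtain ⟨e⟩ := Groth.Agent.S0620.result h₀ ((EtCoh.pull i').obj (nTor J n)) y R q
  refine e.addCommGroupIsoToAddEquiv.toEquiv.subsingleton_congr.2 ?_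
  obtain ⟨Ω, _, _, _, _⟩ : ∃ (Ω : Type u) (_ : Field Ω) (_ : IsSepClosed Ω) (_ : Algebra (Y₀.residueField y) Ω),
      Algebra.IsAlgebraic (Y₀.residueField y) Ω :=
    ⟨AlgebraicClosure (Y₀.residueField y), inferInstance, inferInstance, inferInstance, inferInstance⟩
  refine (subsingleton_sh_iff hh₀ y R Ω _
    (CdCurveLib.isTorsion_pull_map i' (isTorsion_of_nsmul hn (nsmul_nTor J n))) q).2 ?_
  let r := (i.residueFieldMap y).hom
  letI : Algebra (Y.residueField (i.base y)) Ω := ((algebraMap (Y₀.residueField y) Ω).comp r).toAlgebra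
  letI : Algebra (Y.residueField (i.base y)) (Y₀.residueField y) := r.toAlgebra
  haveI : IsScalarTower (Y.residueField (i.base y)) (Y₀.residueField y) Ω := IsScalarTower.of_algebraMap_eq fun _ => rfl
  haveI : Algebra.IsAlgebraic (Y.residueField (i.base y)) (Y₀.residueField y) :=
    ⟨fun x => by
      obtain ⟨a, rfl⟩ := (residueFieldMap_surjective i y) x
      exact isAlgebraic_algebraMap (R := Y.residueField (i.base y)) (A := Y₀.residueField y) a⟩
  haveI : Algebra.IsAlgebraic (Y.residueField (i.base y)) Ω := Algebra.IsAlgebraic.trans _ (Y₀.residueField y) _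
  have hpt : EtAcyc.geomPt Y₀ y Ω ≫ i = EtAcyc.geomPt Y (i.base y) Ω := by
    show (Spec.map _ ≫ Y₀.fromSpecResidueField y) ≫ i = Spec.map _ ≫ Y.fromSpecResidueField (i.base y)
    rw [Category.assoc, ← Scheme.Hom.SpecMap_residueFieldMap_fromSpecResidueField, ← Spec.map_comp_assoc]
    rfl
  haveI := subsingleton_geomFibre hh J hn q hq (i.base y) Ω
  let a := pullback.fst h₀ (EtAcyc.geomPt Y₀ y Ω)
  refine (subsingleton_H_via a i' (a ≫ i') rfl (nTor J n) q).2 ?_
  let u : pullback h₀ (EtAcyc.geomPt Y₀ y Ω) ≅ pullback h (EtAcyc.geomPt Y (i.base y) Ω) :=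
    (hpt ▸ (IsPullback.of_hasPullback h₀ (EtAcyc.geomPt Y₀ y Ω)).paste_horiz hc :
      IsPullback (a ≫ i') (pullback.snd _ _) h (EtAcyc.geomPt Y (i.base y) Ω)).isoPullback
  exact (subsingleton_H_homeo u.hom (pullback.fst _ _) (a ≫ i') (IsPullback.isoPullback_hom_fst _) (nTor J n) q).1
    inferInstance

/-- Restricting to the closed fibre commutes with a `Good` direct image. -/
theorem subsingleton_closedFibre_push {h : X ⟶ Y} [IsProper h] (hh : Good h) (A : Type u) [CommRing A]
    [IsLocalRing A] (g : Y ⟶ Spec (CommRingCat.of A)) (J : EtCoh.Ab X) [Injective J] {n : ℕ} (hn : 0 < n) (q : ℕ) :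
    Subsingleton (EtCoh.H (pullback g (cp A)) ((EtCoh.pull (pullback.fst g (cp A))).obj ((EtCoh.push h).obj (nTor J n))) q) ↔
      Subsingleton (EtCoh.H (pullback (h ≫ g) (cp A)) ((EtCoh.pull (pullback.fst (h ≫ g) (cp A))).obj (nTor J n)) q) := by
  haveI : IsClosedImmersion (cp A) := IsClosedImmersion.spec_of_surjective _ Ideal.Quotient.mk_surjective
  let i' := pullback.fst (h ≫ g) (cp A)
  let h₀ : pullback (h ≫ g) (cp A) ⟶ pullback g (cp A) :=
    pullback.lift (i' ≫ h) (pullback.snd _ _) (by rw [Category.assoc, pullback.condition])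
  have hc : IsPullback i' h₀ h (pullback.fst g (cp A)) :=
    (IsPullback.of_bot (by rw [pullback.lift_snd]; exact (IsPullback.of_hasPullback (h ≫ g) (cp A)))
      (pullback.lift_fst _ _ _).symm (IsPullback.of_hasPullback g (cp A)))
  haveI := EtProperH0Lib.isIso_baseChange0 hc (nTor J n)
  have e1 := ((EtCoh.HF (pullback g (cp A)) q).mapIso
    (asIso (EtCoh.baseChange0 h (pullback.fst g (cp A)) h₀ i' hc.w (nTor J n)))).addCommGroupIsoToAddEquiv.toEquiv
  exact e1.subsingleton_congr.trans (Equiv.ofBijective _ (Groth.Agent.S14451.result h₀ ((EtCoh.pull i').obj (nTor J n))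
    (fun p hp => isZero_Rpush_pull hh (pullback.fst g (cp A)) i' h₀ hc J hn p hp) q)).subsingleton_congr

theorem Good.of_isPullback {S S' X' : Scheme.{u}} {f : X ⟶ S} (hf : Good f) {g' : X' ⟶ X} {f' : X' ⟶ S'}
    {g : S' ⟶ S} (h : IsPullback g' f' f g) : Good f' := fun A _ _ _ _ a _ b hp =>
  hf A _ (a ≫ g') _ (b ≫ g) (hp.paste_horiz h)

/-- Composition. -/
theorem Good.comp {S : Scheme.{u}} {h : X ⟶ Y} [IsProper h] (hh : Good h) {g : Y ⟶ S} [IsProper g] (hg : Good g) :
    Good (h ≫ g) := by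
  intro A _ _ _ X' a f' b hp
  let Y' := pullback g b
  let h' : X' ⟶ Y' := pullback.lift (a ≫ h) f' (by rw [Category.assoc, hp.w])
  have hh' : IsPullback a h' h (pullback.fst g b) :=
    IsPullback.of_bot (by rw [pullback.lift_snd]; exact hp) (pullback.lift_fst _ _ _).symm
      (IsPullback.of_hasPullback g b)
  haveI : IsProper h' := MorphismProperty.of_isPullback hh' inferInstance
  suffices Van A (h' ≫ pullback.snd g b) by rwa [pullback.lift_snd] at this
  intro J hJ n hn q hq
  refine (subsingleton_closedFibre_push (hh.of_isPullback hh') A (pullback.snd g b) J hn q).1 ?_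
  haveI : Injective ((EtCoh.push h').obj J) := EtShLib.injective_push h' J
  refine (((EtCoh.HF _ q).mapIso ((EtCoh.pull (pullback.fst (pullback.snd g b) (cp A))).mapIso
    (pushNTor h' J n))).addCommGroupIsoToAddEquiv.toEquiv.subsingleton_congr).2 ?_
  exact hg A Y' (pullback.fst g b) (pullback.snd g b) b (IsPullback.of_hasPullback g b) _ inferInstance n hn q hq

/-- Descent along a surjection. -/
theorem Good.of_surjective {S X'' : Scheme.{u}} {p : X'' ⟶ X} [IsProper p] [Surjective p] (hp : Good p) {f : X ⟶ S}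
    [IsProper f] (hpf : Good (p ≫ f)) : Good f := by
  intro A _ _ _ X' a f' b hsq J hJ n hn q hq
  let p' : pullback p a ⟶ X' := pullback.snd p a
  haveI : IsProper p' := inferInstance
  haveI : Surjective p' := inferInstance
  have hpb : Good p' := hp.of_isPullback (IsPullback.of_hasPullback p a)
  let I := nTor J n
  haveI : (EtCoh.pull p').Additive := (EtCoh.pullPushAdj p').left_adjoint_additive
  haveI : (EtCoh.push p').Additive := { }
  have hI : n • 𝟙 ((EtCoh.pull p').obj I) = 0 := by
    rw [← CategoryTheory.Functor.map_id, ← Functor.map_nsmul, nsmul_nTor, Functor.map_zero]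
  obtain ⟨J', hJ', m, hm⟩ := exists_mono_nTor hI
  haveI := hm
  haveI : Mono ((EtCoh.pullPushAdj p').unit.app I) := EtBcQLib.mono_unit p' p'.surjective I
  haveI : PreservesLimitsOfSize.{0, 0} (EtCoh.push p') := (EtCoh.pullPushAdj p').rightAdjoint_preservesLimits
  haveI : PreservesFiniteLimits (EtCoh.push p') := PreservesLimitsOfSize.preservesFiniteLimits _
  let M : I ⟶ (EtCoh.push p').obj (nTor J' n) := (EtCoh.pullPushAdj p').unit.app I ≫ (EtCoh.push p').map m
  haveI : Mono M := mono_comp _ _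
  obtain ⟨r, hr⟩ := exists_retraction J n (by
    rw [← CategoryTheory.Functor.map_id, ← Functor.map_nsmul, nsmul_nTor, Functor.map_zero]) M
  haveI := hJ'
  have hK : Subsingleton (EtCoh.H (pullback f' (cp A))
      ((EtCoh.pull (pullback.fst f' (cp A))).obj ((EtCoh.push p').obj (nTor J' n))) q) :=
    (subsingleton_closedFibre_push hpb A f' J' hn q).2
      (hpf A _ (pullback.fst p a) (p' ≫ f') b ((IsPullback.of_hasPullback p a).paste_vert hsq) J' inferInstance n hn q hq)
  refine subsingleton_of_forall_eq 0 fun x => ?_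
  let i := EtCoh.pull (pullback.fst f' (cp A))
  have h1 : (x : Ext.{u + 1} _ (i.obj I) q).comp (Ext.mk₀ (i.map M ≫ i.map r)) (add_zero q) = x := by
    rw [← Functor.map_comp, hr, CategoryTheory.Functor.map_id, Ext.comp_mk₀_id]
  rw [← h1, ← Ext.mk₀_comp_mk₀, ← Ext.comp_assoc_of_second_deg_zero]
  exact (congrArg (fun t => Ext.comp t (Ext.mk₀ (i.map r)) (add_zero q))
    (hK.elim ((x : Ext.{u + 1} _ (i.obj I) q).comp (Ext.mk₀ (i.map M)) (add_zero q)) 0)).trans (Ext.zero_comp _ _ _ _ _)

end EtPBCProperLib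

end
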