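import Groth.Agent.EtPBCProperLib.Stalk
import Groth.Agent.EtShLib.LqfExact
import Groth.Agent.EtShLib.Compactif
import Groth.Agent.SkySumLib.Cohom
import Groth.Agent.S0685

/-!
# Proper direct images of direct images with proper support along locally quasi-finite morphisms
-/

set_option autoImplicit false
set_option linter.unusedSectionVars false
set_option linter.style.haveILetI false
set_option backward.isDefEq.respectTransparency false
set_option backward.isDefEq.respectTransparency.types false
set_option maxHeartbeats 1000000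
set_option synthInstance.maxHeartbeats 400000

universe u

open CategoryTheory CategoryTheory.Limits CategoryTheory.Abelian AlgebraicGeometry Opposite
open Groth.Agent Groth.Agent.EtShLib

attribute [local instance] EtSliceLib.pullExact

noncomputable section

namespace EtPBCProperLib

variable {X Y Z : Scheme.{u}} (f : X ⟶ Y) [IsSeparated f] [LocallyOfFiniteType f] [LocallyQuasiFinite f]

/-- Direct images with proper support of torsion sheaves are torsion. -/
theorem isTorsion_lowerShriek (F : EtCoh.Ab X) (hF : EtCoh.IsTorsion F) :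
    EtCoh.IsTorsion ((EtShriek.lowerShriek f).obj F) := by
  intro U s x
  let P := (preF f).obj F
  obtain ⟨Ω₀, _, _, ξ₀, hξ₀⟩ := exists_geometric_pt (U.hom.base x)
  let Ω := AlgebraicClosure Ω₀
  let ξ : Spec (CommRingCat.of Ω) ⟶ Y := Spec.map (CommRingCat.ofHom (algebraMap Ω₀ Ω)) ≫ ξ₀
  obtain ⟨u, hu⟩ := exists_fib ξ U x ((congrArg ξ₀.base (Subsingleton.elim _ _)).trans hξ₀).symm
  let p := (stk (A := AddCommGrpCat.{u + 1}) ξ).map ((lowerShriekIso f).app F).hom
    (germ (A := AddCommGrpCat.{u + 1}) ξ ((EtShriek.lowerShriek f).obj F) U u s)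
  have hfin := finite_support_comp' f ξ F p
  let c := fun v => comp' f ξ F v p
  have hord : ∀ v, ∃ d : ℕ, 0 < d ∧ d • c v = 0 := fun v =>
    torsionBy_of_isTorsion hF Ω v.1 (c v)
  choose d hd hdc using hord
  let m := ∏ v ∈ hfin.toFinset, d v
  have hm : 0 < m := Finset.prod_pos fun v _ => hd v
  have hp : m • p = 0 := comp'_jointly_injective f ξ F _ fun v => by
    rw [map_nsmul]
    by_cases hv : c v = 0
    · exact (congrArg (m • ·) hv).trans (nsmul_zero m)
    · obtain ⟨b, hb⟩ : d v ∣ m := Finset.dvd_prod_of_mem d (hfin.mem_toFinset.2 hv)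
      rw [hb, mul_comm, mul_smul]
      exact (congrArg (b • ·) (hdc v)).trans (nsmul_zero b)
  have hs : germ (A := AddCommGrpCat.{u + 1}) ξ ((EtShriek.lowerShriek f).obj F) U u (m • s) = 0 := by
    refine (ConcreteCategory.bijective_of_isIso
      ((stk (A := AddCommGrpCat.{u + 1}) ξ).map ((lowerShriekIso f).app F).hom)).1 ?_
    rw [map_nsmul, map_nsmul, map_zero]
    exact hp
  obtain ⟨V, g, v, hv, he⟩ := (germ_eq_iff (A := AddCommGrpCat.{u + 1}) ξ U u (m • s) 0).1 (hs.trans (map_zero _).symm)
  refine ⟨V, g, ⟨v.pt, ?_⟩, isOfFinAddOrder_iff_nsmul_eq_zero.2 ⟨m, hm, ?_⟩⟩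
  · exact (congrArg (fun t : Fib ξ U => t.pt) hv).trans hu
  · rw [← map_nsmul, he, map_zero]

/-- The cohomology of the restriction to a geometric fibre vanishes. -/
theorem subsingleton_lowerShriek_fibre (h : Y ⟶ Z) [IsProper h] [LocallyQuasiFinite (f ≫ h)]
    {Ω : Type u} [Field Ω] [IsSepClosed Ω] (ξ : Spec (CommRingCat.of Ω) ⟶ Z) (F : EtCoh.Ab X) (q : ℕ) (hq : 0 < q) :
    Subsingleton (EtCoh.H (pullback h ξ) ((EtCoh.pull (pullback.fst h ξ)).obj ((EtShriek.lowerShriek f).obj F)) q) := by
  let a := pullback.fst h ξ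
  let b := pullback.snd h ξ
  haveI : IsLocallyNoetherian (pullback h ξ) := LocallyOfFiniteType.isLocallyNoetherian b
  haveI : CompactSpace ↥(pullback h ξ) := QuasiCompact.compactSpace_of_compactSpace b
  haveI : AlgebraicGeometry.IsNoetherian (pullback h ξ) := { }
  refine SkySumLib.subsingleton_H ?_ (fun x => SkySumLib.isSepClosed_residueField b x.1 x.2) q hq
  intro Ω₁ _ _ η hη
  let Ω' := AlgebraicClosure Ω₁
  let η' : Spec (CommRingCat.of Ω') ⟶ pullback h ξ := Spec.map (CommRingCat.ofHom (algebraMap Ω₁ Ω')) ≫ η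
  have hbase : η'.base default = η.base default := congrArg η.base (Subsingleton.elim _ _)
  haveI : IsEmpty {v : Spec (CommRingCat.of Ω') ⟶ X // v ≫ f = η' ≫ a} := ⟨fun v => hη ?_⟩
  · haveI : Subsingleton ((stk (A := AddCommGrpCat.{u + 1}) η').obj
        ((EtCoh.pull a).obj ((EtShriek.lowerShriek f).obj F))) := by
      refine ((stalkPull a η' AddCommGrpCat.{u + 1}).app _).addCommGroupIsoToAddEquiv.toEquiv.subsingleton_congr.1 ?_
      refine ((stk (A := AddCommGrpCat.{u + 1}) (η' ≫ a)).mapIso
        ((lowerShriekIso f).app F)).addCommGroupIsoToAddEquiv.toEquiv.subsingleton_congr.2 ?_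
      exact subsingleton_of_forall_eq 0 fun p => comp'_jointly_injective f (η' ≫ a) F p fun v => isEmptyElim v
    haveI := subsingleton_stk_of_base η' ‹_› η hbase.symm
    exact AddCommGrpCat.isZero_of_subsingleton _
  let l : Spec (CommRingCat.of Ω') ⟶ pullback (f ≫ h) ξ :=
    pullback.lift v.1 (η' ≫ b) (by
      exact (((Category.assoc _ _ _).symm.trans (congrArg (· ≫ h) v.2)).trans (Category.assoc _ _ _)).trans
        ((congrArg (η' ≫ ·) (show a ≫ h = b ≫ ξ from pullback.condition)).trans (Category.assoc _ _ _).symm))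
  let t : pullback (f ≫ h) ξ ⟶ pullback h ξ :=
    pullback.lift (pullback.fst _ _ ≫ f) (pullback.snd _ _) (by rw [Category.assoc, pullback.condition])
  have ht : l ≫ t = η' := by
    refine pullback.hom_ext ?_ ?_
    · rw [Category.assoc, pullback.lift_fst, pullback.lift_fst_assoc, v.2]
    · rw [Category.assoc, pullback.lift_snd, pullback.lift_snd]
  let c := pullback.snd (f ≫ h) ξ
  haveI : LocallyQuasiFinite c := MorphismProperty.pullback_snd _ _ ‹LocallyQuasiFinite (f ≫ h)›
  haveI : DiscreteTopology ↥(pullback (f ≫ h) ξ) := by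
    have h1 : _root_.IsDiscrete (c.base ⁻¹' {default}) := c.isDiscrete_preimage_singleton default
    rw [show c.base ⁻¹' {default} = Set.univ from Set.eq_univ_of_forall fun p => Subsingleton.elim (α := PrimeSpectrum Ω) _ _] at h1
    haveI := h1.to_subtype
    exact (Homeomorph.Set.univ ↥(pullback (f ≫ h) ξ)).symm.isEmbedding.discreteTopology
  haveI : LocallyOfFiniteType (t ≫ b) := by rw [pullback.lift_snd]; infer_instance
  haveI : LocallyOfFiniteType t := locallyOfFiniteType_of_comp t b
  haveI : JacobsonSpace ↥(pullback h ξ) := LocallyOfFiniteType.jacobsonSpace b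
  have h2 := t.closePoints_subset_preimage_closedPoints (isClosed_discrete ({l.base default} : Set ↥(pullback (f ≫ h) ξ)))
  rw [← hbase, ← ht]
  exact h2

/-- The statement for higher direct images. -/
theorem isZero_Rpush_lowerShriek (h : Y ⟶ Z) [IsProper h] [LocallyQuasiFinite (f ≫ h)] (F : EtCoh.Ab X)
    (hF : EtCoh.IsTorsion F) (q : ℕ) (hq : 0 < q) :
    IsZero ((EtCoh.Rpush h q).obj ((EtShriek.lowerShriek f).obj F)) := by
  refine isZero_of_geomPt_stalks _ fun y => ?_
  let R := HenselLib.SH (Z.presheaf.stalk y)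
  have hS : Hensel.IsStrictHenselization (Z.presheaf.stalk y) R := inferInstance
  haveI := hS.henselian
  haveI : IsSepClosed (IsLocalRing.ResidueField R) := hS.isSepClosure.sep_closed
  refine ⟨R, inferInstance, inferInstance, inferInstance, inferInstance, inferInstance, ?_⟩
  obtain ⟨e⟩ := nonempty_stalk_iso h (Hens2.geomPt Z y R) _ (isTorsion_lowerShriek f F hF) q
  exact e.addCommGroupIsoToAddEquiv.toEquiv.subsingleton_congr.2
    (subsingleton_lowerShriek_fibre f h (Hens2.geomPt Z y R) F q hq)

/-- A proper morphism has direct image with proper support equal to the direct image. -/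
theorem nonempty_lowerShriek_comp (h : Y ⟶ Z) [IsProper h] (F : EtCoh.Ab X) :
    Nonempty ((EtShriek.lowerShriek (f ≫ h)).obj F ≅ (EtCoh.push h).obj ((EtShriek.lowerShriek f).obj F)) := by
  obtain ⟨e⟩ := Groth.Agent.S0685.result f h
  haveI := isIso_preι_of_proper h
  exact ⟨e.app F ≪≫ (lowerShriekIso h ≪≫ asIso (preι h)).app _⟩

end EtPBCProperLib

end
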