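import Groth.Agent.EtPBCProperLib.FieldExt
import Groth.Agent.EtBcQLib.Strict

/-!
# Proper base change
-/

set_option autoImplicit false
set_option linter.unusedSectionVars false
set_option linter.style.haveILetI false
set_option backward.isDefEq.respectTransparency false
set_option backward.isDefEq.respectTransparency.types false
set_option maxHeartbeats 1000000
set_option synthInstance.maxHeartbeats 400000

universe u

open CategoryTheory CategoryTheory.Limits CategoryTheory.Abelian AlgebraicGeometry Opposite
open Groth.Agent Groth.Agent.EtShLib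
open FEtProper (spR)

attribute [local instance] EtSliceLib.pullExact

noncomputable section

namespace EtPBCProperLib

/-- Proper base change between strictly henselian local rings. -/
theorem bijective_local {R R' : Type u} [CommRing R] [HenselianLocalRing R] [IsSepClosed (IsLocalRing.ResidueField R)]
    [CommRing R'] [HenselianLocalRing R'] [IsSepClosed (IsLocalRing.ResidueField R')] (ψ : R →+* R') [IsLocalHom ψ]
    {P P' : Scheme.{u}} (b : P ⟶ Spec (CommRingCat.of R)) [IsProper b] {b' : P' ⟶ Spec (CommRingCat.of R')}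
    {m : P' ⟶ P} (h : IsPullback m b' b (Spec.map (CommRingCat.ofHom ψ))) (F : EtCoh.Ab P) (hF : EtCoh.IsTorsion F)
    (q : ℕ) : Function.Bijective (EtCore.Hpull m F q) := by
  haveI : IsProper b' := MorphismProperty.of_isPullback h inferInstance
  letI : Field (R ⧸ IsLocalRing.maximalIdeal R) := Ideal.Quotient.field _
  letI : Field (R' ⧸ IsLocalRing.maximalIdeal R') := Ideal.Quotient.field _
  haveI := isSepClosed_quotient R
  haveI := isSepClosed_quotient R'
  haveI : IsClosedImmersion (cp R) := IsClosedImmersion.spec_of_surjective _ Ideal.Quotient.mk_surjective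
  haveI : IsClosedImmersion (cp R') := IsClosedImmersion.spec_of_surjective _ Ideal.Quotient.mk_surjective
  have hle : IsLocalRing.maximalIdeal R ≤ (IsLocalRing.maximalIdeal R').comap ψ := fun x hx => map_nonunit ψ x hx
  let ψ₀ : R ⧸ IsLocalRing.maximalIdeal R →+* R' ⧸ IsLocalRing.maximalIdeal R' :=
    Ideal.quotientMap (IsLocalRing.maximalIdeal R') ψ hle
  letI : Algebra (R ⧸ IsLocalRing.maximalIdeal R) (R' ⧸ IsLocalRing.maximalIdeal R') := ψ₀.toAlgebra
  let g₀ := spR (R ⧸ IsLocalRing.maximalIdeal R) (R' ⧸ IsLocalRing.maximalIdeal R')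
  have hψ : g₀ ≫ cp R = cp R' ≫ Spec.map (CommRingCat.ofHom ψ) := by
    rw [← Spec.map_comp, ← Spec.map_comp]
    congr 1
  let i := pullback.fst b (cp R)
  let i' := pullback.fst b' (cp R')
  let m₀ : pullback b' (cp R') ⟶ pullback b (cp R) :=
    pullback.lift (i' ≫ m) (pullback.snd _ _ ≫ g₀) (by
      rw [Category.assoc, h.w, Category.assoc, hψ, pullback.condition_assoc])
  have h₀ : IsPullback m₀ (pullback.snd b' (cp R')) (pullback.snd b (cp R)) g₀ := by
    refine IsPullback.of_right ?_ (pullback.lift_snd _ _ _) (IsPullback.of_hasPullback b (cp R))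
    rw [pullback.lift_fst, hψ]
    exact (IsPullback.of_hasPullback b' (cp R')).paste_horiz h
  have hm₀ : Function.Bijective (EtCore.Hpull m₀ ((EtCoh.pull i).obj F) q) :=
    EtExtLib.bijective_comp h₀.isoPullback.hom (pullback.fst (pullback.snd b (cp R)) g₀) m₀
      h₀.isoPullback_hom_fst _ q (bijective_of_iso _ _ _)
      (bijective_field (pullback.snd b (cp R)) _ (CdCurveLib.isTorsion_pull_map i hF) q)
  exact EtExtLib.bijective_cancel i' m (i' ≫ m) rfl F q
    (bijective_strict R' b' _ (CdCurveLib.isTorsion_pull_map m hF) q)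
    (EtExtLib.bijective_comp m₀ i (i' ≫ m) (pullback.lift_fst _ _ _) F q hm₀ (bijective_strict R b F hF q))

/-- Proper base change: the base change morphisms are isomorphisms. -/
theorem isIso_bcQ {X S Y T : Scheme.{u}} (f : X ⟶ S) (g : T ⟶ S) [IsProper g] (h : Y ⟶ X) (e : Y ⟶ T)
    (c : IsPullback e h g f) [PreservesFiniteLimits (EtCoh.pull e)] (F : EtCoh.Ab T) (hF : EtCoh.IsTorsion F) (q : ℕ) :
    IsIso (EtBC.bcQ g f h e c.w q F) := by
  refine (EtBcQLib.isIso_bcQ_iff f g h e c F q).1 ?_
  intro x RS _ _ _ _ hS RX _ _ _ _ hX ψ _ hψ PS PX aS bS sqS aX bX sqX m w hm _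
  haveI : HenselianLocalRing RS := hS.henselian
  haveI : HenselianLocalRing RX := hX.henselian
  haveI : IsSepClosed (IsLocalRing.ResidueField RS) := hS.isSepClosure.sep_closed
  haveI : IsSepClosed (IsLocalRing.ResidueField RX) := hX.isSepClosure.sep_closed
  haveI : IsProper bS := MorphismProperty.of_isPullback sqS inferInstance
  have hm' : IsPullback m bX bS (Spec.map (CommRingCat.ofHom ψ)) := by
    refine IsPullback.of_right ?_ hm sqS
    rw [w, EtBcQLib.specOf_comp f x RS RX ψ hψ]
    exact sqX
  have h1 := bijective_local ψ bS hm' _ (CdCurveLib.isTorsion_pull_map aS hF) q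
  exact (((EtCoh.HF PX q).mapIso (((EtCore.pullComp m aS).symm ≪≫
    EtCore.pullCongr w).app F)).addCommGroupIsoToAddEquiv.bijective).comp h1

end EtPBCProperLib

end
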