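import Groth.Agent.EtPBCProperLib.Main
import Groth.Agent.S0155

/-!
# Stalks of proper direct images
-/

set_option autoImplicit false
set_option linter.unusedSectionVars false
set_option linter.style.haveILetI false
set_option backward.isDefEq.respectTransparency false
set_option backward.isDefEq.respectTransparency.types false
set_option maxHeartbeats 1000000
set_option synthInstance.maxHeartbeats 400000

universe u

open CategoryTheory CategoryTheory.Limits CategoryTheory.Abelian AlgebraicGeometry Opposite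
open Groth.Agent Groth.Agent.EtShLib

attribute [local instance] EtSliceLib.pullExact

noncomputable section

namespace EtPBCProperLib

/-- The trivial chart of a strictly henselian scheme. -/
def idChart (R : Type u) [CommRing R] : EtRpushStalkLib.Chart (𝟙 (Spec (CommRingCat.of R))) where
  I := Discrete PUnit.{u + 1}
  DS := (Functor.const _).obj (EtCoh.top _)
  aff := fun _ => inferInstanceAs (IsAffine (Spec (CommRingCat.of R)))
  π := fun _ => 𝟙 _
  w := fun _ => Category.id_comp _
  nat := fun _ => Category.id_comp _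
  hc :=
    { lift := fun s => s.π.app ⟨PUnit.unit⟩
      fac := fun s j => by
        obtain ⟨⟨⟩⟩ := j
        exact Category.comp_id _
      uniq := fun s m hm => (Category.comp_id m).symm.trans (hm ⟨PUnit.unit⟩) }

/-- The stalk of a higher direct image at a geometric point is the cohomology of the fibre. -/
theorem nonempty_stalk_iso {X Y : Scheme.{u}} (f : X ⟶ Y) [IsProper f] {Ω : Type u} [Field Ω] [IsSepClosed Ω]
    (ξ : Spec (CommRingCat.of Ω) ⟶ Y) (F : EtCoh.Ab X) (hF : EtCoh.IsTorsion F) (n : ℕ) :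
    Nonempty ((EtCoh.stalk ξ).obj ((EtCoh.Rpush f n).obj F) ≅
      AddCommGrpCat.of (EtCoh.H (pullback f ξ) ((EtCoh.pull (pullback.fst f ξ)).obj F) n)) := by
  haveI : IsSepClosed (IsLocalRing.ResidueField Ω) := SkySumLib.isSepClosed_residueField_self Ω
  let c := closedPt Ω
  let f' := pullback.snd f ξ
  let G := (EtCoh.pull (pullback.fst f ξ)).obj F
  obtain ⟨a⟩ := nonempty_stk_iso_of_eq (A := AddCommGrpCat.{u + 1}) (ξ := ξ) (ξ' := c ≫ ξ)
    (congrArg ξ.base (Subsingleton.elim (c.base default) default))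
  haveI := isIso_bcQ ξ f f' (pullback.fst f ξ) (IsPullback.of_hasPullback f ξ) F hF n
  obtain ⟨e⟩ := EtRpushStalkLib.nonempty_iso f' (g' := 𝟙 (pullback f ξ)) (f' := f')
    (gS := 𝟙 (Spec (CommRingCat.of Ω))) (IsPullback.of_horiz_isIso ⟨by rw [Category.id_comp, Category.comp_id]⟩) (idChart Ω) n
  obtain ⟨a'⟩ := nonempty_stk_iso_of_eq (A := AddCommGrpCat.{u + 1}) (ξ := c) (ξ' := c ≫ 𝟙 _)
    (by rw [Category.comp_id])
  exact ⟨a.app _ ≪≫ (stalkPull ξ c AddCommGrpCat.{u + 1}).app _ ≪≫
    (stk (A := AddCommGrpCat.{u + 1}) c).mapIso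
      (asIso (EtBC.bcQ f ξ f' (pullback.fst f ξ) pullback.condition n F)) ≪≫
    a'.app _ ≪≫ e.app G ≪≫
    (AddEquiv.ofBijective _ (bijective_of_iso (𝟙 (pullback f ξ)) G n)).symm.toAddCommGrpIso⟩

end EtPBCProperLib

end
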