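import Groth.Agent.EtPBCProperLib.Effacement
import Groth.Agent.EtShLib.TorsionColim
import Groth.Agent.CovDevLib.Devissage
import Groth.Agent.RDerLib.Delta
import Groth.Agent.EpsLib.PushDerived

/-!
# The torsion part of an injective sheaf effaces torsion sheaves
-/

set_option autoImplicit false
set_option linter.unusedSectionVars false
set_option linter.style.haveILetI false
set_option backward.isDefEq.respectTransparency false
set_option backward.isDefEq.respectTransparency.types false
set_option maxHeartbeats 1000000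
set_option synthInstance.maxHeartbeats 400000

universe u w v

open CategoryTheory CategoryTheory.Limits CategoryTheory.Abelian AlgebraicGeometry Opposite
open Groth.Agent Groth.Agent.EtShLib

attribute [local instance] EtSliceLib.pullExact CategoryTheory.Abelian.hasFiniteBiproducts

noncomputable section

namespace EtPBCProperLib

/-- The index of the tower. -/
abbrev NIdx : Type (u + 1) := AsSmall.{u + 1} ℕ

variable {X : Scheme.{u}} (J : EtCoh.Ab X)

theorem nsmul_kernelι_of_dvd {a b : ℕ} (h : a ∣ b) : kernel.ι (a • 𝟙 J) ≫ (b • 𝟙 J) = 0 := by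
  obtain ⟨c, rfl⟩ := h
  rw [mul_comm, mul_smul, Preadditive.comp_nsmul, kernel.condition, nsmul_zero]

/-- The tower of the torsion of factorial orders. -/
def torTower : ℕ ⥤ EtCoh.Ab X where
  obj k := nTor J k.factorial
  map {a b} f := kernel.lift _ (kernel.ι _) (nsmul_kernelι_of_dvd J (Nat.factorial_dvd_factorial (leOfHom f)))
  map_id _ := by
    apply equalizer.hom_ext
    rw [Category.id_comp]
    exact kernel.lift_ι _ _ _
  map_comp _ _ := by
    apply equalizer.hom_ext
    rw [Category.assoc]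
    exact (kernel.lift_ι _ _ _).trans ((kernel.lift_ι _ _ _).symm.trans (congrArg _ (kernel.lift_ι _ _ _).symm))

/-- The lifted tower. -/
def torDiag : NIdx.{u} ⥤ EtCoh.Ab X :=
  AsSmall.down ⋙ torTower J

instance : IsFiltered NIdx.{u} :=
  IsFiltered.of_equivalence AsSmall.equiv

instance : HasColimit (torDiag J) := inferInstance

/-- The torsion part. -/
def tor : EtCoh.Ab X := colimit (torDiag J)

/-- The inclusion of the torsion part. -/
def torCocone : Cocone (torDiag J) :=
  ⟨J, ⟨fun k => kernel.ι _, fun a b f => by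
    exact (kernel.lift_ι _ _ _).trans (Category.comp_id _).symm⟩⟩

def torι : tor J ⟶ J := colimit.desc (torDiag J) (torCocone J)

instance mono_torι : Mono (torι J) := by
  refine (mono_iff_stalks _).2 fun Ω _ _ ξ => (AddCommGrpCat.mono_iff_injective _).2 ?_
  let S := stk (A := AddCommGrpCat.{u + 1}) ξ
  refine (injective_iff_map_eq_zero _).2 fun x hx => ?_
  obtain ⟨k, z, rfl⟩ := Concrete.isColimit_exists_rep (torDiag J ⋙ S)
    (isColimitOfPreserves S (colimit.isColimit (torDiag J))) x
  change (S.map (colimit.ι (torDiag J) k) ≫ S.map (torι J)) z = 0 at hx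
  rw [← S.map_comp, torι, colimit.ι_desc] at hx
  haveI : Mono (S.map ((torCocone J).ι.app k)) := by
    haveI : Mono ((torCocone J).ι.app k) := inferInstanceAs (Mono (kernel.ι _))
    infer_instance
  have hz : z = 0 := (AddCommGrpCat.mono_iff_injective (S.map ((torCocone J).ι.app k))).1 inferInstance
    (hx.trans (map_zero _).symm)
  rw [hz]
  exact map_zero _

/-- A sheaf with torsion stalks is torsion. -/
theorem isTorsion_of_torsionBy {F : EtCoh.Ab X} (hF : TorsionBy (fun n => 0 < n) F) : EtCoh.IsTorsion F := by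
  intro U s x
  obtain ⟨Ω, _, _, ξ, hξ⟩ := exists_geometric_pt (U.hom.base x)
  obtain ⟨u, hu⟩ := exists_fib ξ U x hξ.symm
  obtain ⟨m, hm, hp⟩ := hF Ω ξ (germ (A := AddCommGrpCat.{u + 1}) ξ F U u s)
  rw [← map_nsmul] at hp
  obtain ⟨V, g, v, hv, he⟩ := (germ_eq_iff (A := AddCommGrpCat.{u + 1}) ξ U u (m • s) 0).1 (hp.trans (map_zero _).symm)
  refine ⟨V, g, ⟨v.pt, ?_⟩, isOfFinAddOrder_iff_nsmul_eq_zero.2 ⟨m, hm, ?_⟩⟩
  · exact (congrArg (fun t : Fib ξ U => t.pt) hv).trans hu
  · rw [← map_nsmul, he, map_zero]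

theorem nsmul_map_stk {F G : EtCoh.Ab X} {Ω : Type u} [Field Ω] [IsSepClosed Ω]
    (ξ : Spec (CommRingCat.of Ω) ⟶ X) (φ : F ⟶ G) (m : ℕ) (p : (stk (A := AddCommGrpCat.{u + 1}) ξ).obj F) :
    (stk (A := AddCommGrpCat.{u + 1}) ξ).map (m • φ) p = m • (stk (A := AddCommGrpCat.{u + 1}) ξ).map φ p := by
  obtain ⟨U, u, s, rfl⟩ := exists_germ ξ p
  rw [germ_natural_apply, germ_natural_apply, ← map_nsmul, ← map_nsmul]
  refine congrArg _ ?_
  have h1 : (m • φ).hom.app (op U) = m • φ.hom.app (op U) := rfl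
  rw [h1]
  exact (congrArg (fun t : _ →+ _ => t s) (show (m • φ.hom.app (op U)).hom = m • (φ.hom.app (op U)).hom from
    map_nsmul AddCommGrpCat.homAddEquiv m _)).trans (map_nsmul (φ.hom.app (op U)).hom m s).symm

theorem isTorsion_tor : EtCoh.IsTorsion (tor J) := by
  refine isTorsion_of_torsionBy fun Ω _ _ ξ p => ?_
  let S := stk (A := AddCommGrpCat.{u + 1}) ξ
  obtain ⟨k, z, rfl⟩ := Concrete.isColimit_exists_rep (torDiag J ⋙ S)
    (isColimitOfPreserves S (colimit.isColimit (torDiag J))) p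
  refine ⟨(AsSmall.down.obj k).factorial, Nat.factorial_pos _, ?_⟩
  show (AsSmall.down.obj k).factorial • (S.map (colimit.ι (torDiag J) k)) z = 0
  rw [← map_nsmul]
  have h := nsmul_map_stk ξ (𝟙 (nTor J (AsSmall.down.obj k).factorial)) (AsSmall.down.obj k).factorial z
  rw [nsmul_nTor, CategoryTheory.Functor.map_id] at h
  have h0 : S.map (0 : nTor J (AsSmall.down.obj k).factorial ⟶ nTor J (AsSmall.down.obj k).factorial) z = 0 := by
    rw [S.map_zero]
    rfl
  exact (congrArg _ (h.symm.trans h0)).trans (map_zero _)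

/-- Torsion sheaves embed in the torsion part of an injective. -/
theorem exists_mono_tor {F : EtCoh.Ab X} (hF : EtCoh.IsTorsion F) :
    ∃ (J : EtCoh.Ab X) (_ : Injective J) (m : F ⟶ tor J), Mono m := by
  let ip := (EnoughInjectives.presentation F).some
  haveI : Injective ip.J := ip.injective
  let c := cokernel.π (torι ip.J)
  have hz : ip.f ≫ c = 0 := by
    apply Sheaf.hom_ext
    ext U x
    refine eq_of_germ (cokernel (torι ip.J)) _ _ fun Ω _ _ ξ u => ?_
    let S := stk (A := AddCommGrpCat.{u + 1}) ξ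
    refine (germ_natural_apply ξ (ip.f ≫ c) U.unop u x).symm.trans (Eq.trans ?_ (germ_natural_apply ξ (0 : F ⟶ cokernel (torι ip.J)) U.unop u x))
    generalize germ (A := AddCommGrpCat.{u + 1}) ξ F U.unop u x = p
    rw [show (stk (A := AddCommGrpCat.{u + 1}) ξ).map (0 : F ⟶ cokernel (torι ip.J)) = 0 from S.map_zero _ _]
    obtain ⟨k, hk, hkp⟩ := torsionBy_of_isTorsion hF Ω ξ p
    let T := ShortComplex.mk (kernel.ι (k.factorial • 𝟙 ip.J)) (k.factorial • 𝟙 ip.J) (kernel.condition _)
    have hex := (ShortComplex.exact_of_f_is_kernel T (kernelIsKernel _)).map S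
    obtain ⟨z, hz⟩ : ∃ z, S.map (kernel.ι (k.factorial • 𝟙 ip.J)) z = S.map ip.f p := by
      refine (ShortComplex.ab_exact_iff _).1 hex (S.map ip.f p) ?_
      show S.map (k.factorial • 𝟙 ip.J) (S.map ip.f p) = 0
      rw [nsmul_map_stk, CategoryTheory.Functor.map_id]
      show k.factorial • S.map ip.f p = 0
      obtain ⟨d, hd⟩ := Nat.dvd_factorial hk le_rfl
      rw [hd, mul_comm, mul_smul, ← map_nsmul, hkp, map_zero, nsmul_zero]
    rw [S.map_comp, ConcreteCategory.comp_apply, ← hz]
    have h1 : kernel.ι (k.factorial • 𝟙 ip.J) ≫ c = 0 := by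
      have h2 : colimit.ι (torDiag ip.J) ((AsSmall.up (C := ℕ)).obj k) ≫ torι ip.J =
          kernel.ι (k.factorial • 𝟙 ip.J) := colimit.ι_desc _ _
      rw [← h2, Category.assoc, cokernel.condition, comp_zero]
    exact (congrArg (fun t => t z) ((S.map_comp _ _).symm.trans ((congrArg S.map h1).trans (S.map_zero _ _))) : _)
  let m : F ⟶ tor ip.J := Abelian.monoLift (torι ip.J) ip.f hz
  have hm : m ≫ torι ip.J = ip.f := Abelian.monoLift_comp _ _ _
  haveI : Mono (m ≫ torι ip.J) := by rw [hm]; infer_instance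
  exact ⟨ip.J, ip.injective, m, mono_of_mono m (torι ip.J)⟩

/-- A cohomological vanishing for the torsion of an injective extends to its torsion part. -/
theorem subsingleton_tor {W : Scheme.{u}} [CompactSpace W] [QuasiSeparatedSpace W] (P : EtCoh.Ab X ⥤ EtCoh.Ab W)
    [P.IsLeftAdjoint] (q : ℕ) (hv : ∀ n : ℕ, 0 < n → Subsingleton (EtCoh.H W (P.obj (nTor J n)) q)) :
    Subsingleton (EtCoh.H W (P.obj (tor J)) q) := by
  haveI := CovDevLib.preservesColimits_H (S := W) q NIdx.{u}
  refine subsingleton_of_forall_eq 0 fun y => ?_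
  obtain ⟨k, z, hz⟩ := CovDevLib.exists_rep_of_colimit P (Abelian.extFunctorObj.{u + 1} (EtCoh.const W ℤ) q)
    (colimit.isColimit (torDiag J)) y
  refine hz.symm.trans ?_
  have h0 : z = 0 := (hv _ (Nat.factorial_pos _)).elim (α := EtCoh.H W (P.obj (nTor J _)) q) _ _
  rw [h0]
  exact map_zero _

theorem isTorsion_cokernel {A B : EtCoh.Ab X} (f : A ⟶ B) (hB : EtCoh.IsTorsion B) : EtCoh.IsTorsion (cokernel f) := by
  refine isTorsion_of_torsionBy fun Ω _ _ ξ p => ?_
  obtain ⟨b, rfl⟩ := (AddCommGrpCat.epi_iff_surjective ((stk (A := AddCommGrpCat.{u + 1}) ξ).map (cokernel.π f))).1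
    inferInstance p
  obtain ⟨m, hm, hb⟩ := torsionBy_of_isTorsion hB Ω ξ b
  exact ⟨m, hm, by rw [← map_nsmul, hb, map_zero]⟩

section Comparison

variable {A : Type*} [Category A] [Abelian A] [HasInjectiveResolutions A] {A' : Type*} [Category A'] [Abelian A']
  [HasInjectiveResolutions A'] {B : Type*} [Category B] [Abelian B] {B' : Type*} [Category B'] [Abelian B']
  (P : A ⥤ B) [P.Additive] [PreservesFiniteLimits P] (P' : A' ⥤ B') [P'.Additive] [PreservesFiniteLimits P']
  (G : A ⥤ A') [PreservesFiniteLimits G] [PreservesFiniteColimits G] (G' : B ⥤ B') [G'.Additive]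
  [PreservesFiniteColimits G']

/-- Derived functors of commuting functors agree on a class with common acyclic effacements. -/
theorem nonempty_rightDerived_comm (e : P ⋙ G' ≅ G ⋙ P') (tors : A → Prop)
    (heff : ∀ F, tors F → ∃ (T : A) (m : F ⟶ T), Mono m ∧ tors (cokernel m) ∧
      (∀ q, 0 < q → IsZero ((P.rightDerived q).obj T)) ∧ ∀ q, 0 < q → IsZero ((P'.rightDerived q).obj (G.obj T))) :
    ∀ (q : ℕ) (F : A), tors F → Nonempty (G'.obj ((P.rightDerived q).obj F) ≅ (P'.rightDerived q).obj (G.obj F)) := by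
  haveI : G.Additive := Functor.additive_of_preserves_binary_products _
  intro q
  induction q with
  | zero =>
    intro F _
    exact ⟨G'.mapIso (P.rightDerivedZeroIsoSelf.app F) ≪≫ e.app F ≪≫ (P'.rightDerivedZeroIsoSelf.app (G.obj F)).symm⟩
  | succ q ih =>
    intro F hF
    obtain ⟨T, m, hm, hC, hP, hP'⟩ := heff F hF
    haveI := hm
    let S : ShortComplex A := ShortComplex.mk m (cokernel.π m) (cokernel.condition m)
    have hS : S.ShortExact := { exact := ShortComplex.exact_of_g_is_cokernel _ (cokernelIsCokernel _) }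
    have hS' := hS.map_of_exact G
    cases q with
    | zero =>
      obtain ⟨i⟩ := Groth.Agent.EpsLib.nonempty_iso_one P hS (hP 1 one_pos)
      obtain ⟨i'⟩ := Groth.Agent.EpsLib.nonempty_iso_one P' hS' (hP' 1 one_pos)
      exact ⟨G'.mapIso i.symm ≪≫ PreservesCokernel.iso G' (P.map S.g) ≪≫
        cokernel.mapIso _ _ (e.app _) (e.app _) (e.hom.naturality S.g) ≪≫ i'⟩
    | succ q =>
      obtain ⟨i⟩ := Groth.Agent.EpsLib.nonempty_iso_succ P hS (q + 1) (hP _ q.succ_pos) (hP _ (q + 1).succ_pos)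
      obtain ⟨i'⟩ := Groth.Agent.EpsLib.nonempty_iso_succ P' hS' (q + 1) (hP' _ q.succ_pos) (hP' _ (q + 1).succ_pos)
      obtain ⟨j⟩ := ih S.X₃ hC
      exact ⟨G'.mapIso i.symm ≪≫ j ≪≫ i'⟩

end Comparison

end EtPBCProperLib

end
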