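import Groth.Agent.EtPBCProperLib.FieldExt
import Groth.Agent.EtPBCProperLib.Torsion
import Groth.Agent.BigEtLib.Compare
import Groth.Agent.BigEtLib.Exact
import Groth.Agent.S6686

/-!
# Proper base change and the big étale site
-/

set_option autoImplicit false
set_option linter.unusedSectionVars false
set_option linter.style.haveILetI false
set_option backward.isDefEq.respectTransparency false
set_option backward.isDefEq.respectTransparency.types false
set_option maxHeartbeats 1000000
set_option synthInstance.maxHeartbeats 400000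

universe u

open CategoryTheory CategoryTheory.Limits CategoryTheory.Abelian AlgebraicGeometry Opposite
open Groth.Agent Groth.Agent.EtShLib

attribute [local instance] EtSliceLib.pullExact

noncomputable section

namespace EtPBCProperLib

theorem subsingleton_of_isZero_Rpush {X Y : Scheme.{u}} (f : X ⟶ Y) [QuasiCompact f] [QuasiSeparated f] (G : EtCoh.Ab X) (q : ℕ)
    (h : IsZero ((EtCoh.Rpush f q).obj G)) (y : Y) (R : Type u) [CommRing R] [IsLocalRing R]
    [Algebra (Y.presheaf.stalk y) R] [IsLocalHom (algebraMap (Y.presheaf.stalk y) R)]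
    [Hensel.IsStrictHenselization (Y.presheaf.stalk y) R] [IsSepClosed (IsLocalRing.ResidueField R)] :
    Subsingleton (EtCoh.H (pullback f (Hens2.specOf Y y R)) ((EtCoh.pull (pullback.fst f (Hens2.specOf Y y R))).obj G) q) := by
  obtain ⟨e⟩ := Groth.Agent.S0620.result f G y R q
  haveI := AddCommGrpCat.subsingleton_of_isZero ((EtCoh.stalk (Hens2.geomPt Y y R)).map_isZero h)
  exact e.addCommGroupIsoToAddEquiv.toEquiv.subsingleton_congr.1 inferInstance

/-- Higher direct images of pullbacks of torsion parts vanish. -/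
theorem isZero_Rpush_pull_tor {X Y X' Y' : Scheme.{u}} (f : X ⟶ Y) [IsProper f] (g : Y' ⟶ Y) (g' : X' ⟶ X) (f' : X' ⟶ Y')
    (c : IsPullback g' f' f g) (J : EtCoh.Ab X) [Injective J] (q : ℕ) (hq : 0 < q) :
    IsZero ((EtCoh.Rpush f' q).obj ((EtCoh.pull g').obj (tor J))) := by
  haveI : IsProper f' := MorphismProperty.of_isPullback c inferInstance
  refine isZero_of_geomPt_stalks _ fun y => ?_
  let R := HenselLib.SH (Y'.presheaf.stalk y)
  have hS : Hensel.IsStrictHenselization (Y'.presheaf.stalk y) R := inferInstance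
  haveI := hS.henselian
  haveI : IsSepClosed (IsLocalRing.ResidueField R) := hS.isSepClosure.sep_closed
  refine ⟨R, inferInstance, inferInstance, inferInstance, inferInstance, inferInstance, ?_⟩
  obtain ⟨e⟩ := Groth.Agent.S0620.result f' ((EtCoh.pull g').obj (tor J)) y R q
  refine e.addCommGroupIsoToAddEquiv.toEquiv.subsingleton_congr.2 ?_
  let b := pullback.fst f' (Hens2.specOf Y' y R)
  haveI : CompactSpace ↥(pullback f' (Hens2.specOf Y' y R)) :=
    QuasiCompact.compactSpace_of_compactSpace (pullback.snd f' (Hens2.specOf Y' y R))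
  haveI : QuasiSeparatedSpace ↥(pullback f' (Hens2.specOf Y' y R)) :=
    quasiSeparatedSpace_of_quasiSeparated (pullback.snd f' (Hens2.specOf Y' y R))
  haveI : (EtCoh.pull g').IsLeftAdjoint := (EtCoh.pullPushAdj g').isLeftAdjoint
  haveI : (EtCoh.pull b).IsLeftAdjoint := (EtCoh.pullPushAdj b).isLeftAdjoint
  exact subsingleton_tor J (EtCoh.pull g' ⋙ EtCoh.pull b) q fun n hn => subsingleton_of_isZero_Rpush f'
    ((EtCoh.pull g').obj (nTor J n)) q (isZero_Rpush_baseChange (fgood_of_isProper f) g g' f' c J hn q hq) y R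

theorem isZero_Rpush_tor {X Y : Scheme.{u}} (f : X ⟶ Y) [IsProper f] (J : EtCoh.Ab X) [Injective J] (q : ℕ) (hq : 0 < q) :
    IsZero ((EtCoh.Rpush f q).obj (tor J)) := by
  refine isZero_of_geomPt_stalks _ fun y => ?_
  let R := HenselLib.SH (Y.presheaf.stalk y)
  have hS : Hensel.IsStrictHenselization (Y.presheaf.stalk y) R := inferInstance
  haveI := hS.henselian
  haveI : IsSepClosed (IsLocalRing.ResidueField R) := hS.isSepClosure.sep_closed
  refine ⟨R, inferInstance, inferInstance, inferInstance, inferInstance, inferInstance, ?_⟩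
  obtain ⟨e⟩ := Groth.Agent.S0620.result f (tor J) y R q
  refine e.addCommGroupIsoToAddEquiv.toEquiv.subsingleton_congr.2 ?_
  let b := pullback.fst f (Hens2.specOf Y y R)
  haveI : CompactSpace ↥(pullback f (Hens2.specOf Y y R)) :=
    QuasiCompact.compactSpace_of_compactSpace (pullback.snd f (Hens2.specOf Y y R))
  haveI : QuasiSeparatedSpace ↥(pullback f (Hens2.specOf Y y R)) :=
    quasiSeparatedSpace_of_quasiSeparated (pullback.snd f (Hens2.specOf Y y R))
  haveI : (EtCoh.pull b).IsLeftAdjoint := (EtCoh.pullPushAdj b).isLeftAdjoint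
  exact subsingleton_tor J (EtCoh.pull b) q fun n hn => subsingleton_of_isZero_Rpush f
    (nTor J n) q (isZero_Rpush_nTor f J hn q hq) y R

open EtProperH0Lib in
/-- Proper direct images commute with the pullback to the big site. -/
def phiAb {T S : Scheme.{u}} (f : T ⟶ S) [IsProper f] :
    EtCoh.push f ⋙ BigSite.piEtPull Scheme.etalePrecoverage S ≅
      BigSite.piEtPull Scheme.etalePrecoverage T ⋙ BigSite.pushBig Scheme.etalePrecoverage f AddCommGrpCat.{u + 1} :=
  haveI : ∀ G : Sheaf T.smallEtaleTopology AddCommGrpCat.{u + 1}, IsIso (phi f G) := fun G => isIso_phi hasGerms_ab f G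
  NatIso.ofComponents (fun G => asIso (phi f G)) fun g => phi_naturality f g

theorem isZero_bigSite {S : Scheme.{u}} (G : BigSite.Ab Scheme.etalePrecoverage S)
    (h : ∀ (T : Scheme.{u}) (g : T ⟶ S), IsZero ((BigSite.resEtAlong Scheme.etalePrecoverage g).obj G)) : IsZero G := by
  refine IsZero.of_full_of_faithful_of_isZero (sheafToPresheaf _ _) _ (Functor.isZero _ fun W => ?_)
  obtain ⟨W⟩ := W
  let ev : EtCoh.Ab W.left ⥤ AddCommGrpCat.{u + 1} :=
    sheafToPresheaf _ _ ⋙ (evaluation _ _).obj (op (EtCoh.top W.left))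
  haveI : ev.PreservesZeroMorphisms := ⟨fun _ _ => rfl⟩
  have h1 := ev.map_isZero (h W.left W.hom)
  let i : (Over.map W.hom).obj ((EtFppf.a W.left).obj (EtCoh.top W.left)) ≅ W :=
    Over.isoMk (Iso.refl _) ((Category.id_comp _).trans (Category.id_comp _).symm)
  exact IsZero.of_iso h1 (G.obj.mapIso i.op)

theorem nonempty_piEtPull_Rpush {T S : Scheme.{u}} (f : T ⟶ S) [IsProper f] (F : EtCoh.Ab T) (hF : EtCoh.IsTorsion F)
    (q : ℕ) : Nonempty ((BigSite.piEtPull Scheme.etalePrecoverage S).obj ((EtCoh.Rpush f q).obj F) ≅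
      (BigSite.RpushBig Scheme.etalePrecoverage f q).obj ((BigSite.piEtPull Scheme.etalePrecoverage T).obj F)) := by
  haveI : PreservesLimitsOfSize.{0, 0} (EtCoh.push f) := (EtCoh.pullPushAdj f).rightAdjoint_preservesLimits
  haveI : PreservesFiniteLimits (EtCoh.push f) := PreservesLimitsOfSize.preservesFiniteLimits _
  haveI : PreservesLimitsOfSize.{0, 0} (BigSite.pushBig Scheme.etalePrecoverage f AddCommGrpCat.{u + 1}) :=
    (BigSite.bigAdj Scheme.etalePrecoverage f _).rightAdjoint_preservesLimits
  haveI : PreservesFiniteLimits (BigSite.pushBig Scheme.etalePrecoverage f AddCommGrpCat.{u + 1}) :=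
    PreservesLimitsOfSize.preservesFiniteLimits _
  haveI := BigEtLib.piEtPull_preservesFiniteLimits (S := T) Scheme.etalePrecoverage
  haveI : PreservesColimitsOfSize.{0, 0} (BigSite.piEtPull Scheme.etalePrecoverage T) :=
    (BigSite.piEtAdj Scheme.etalePrecoverage T).leftAdjoint_preservesColimits
  haveI : PreservesFiniteColimits (BigSite.piEtPull Scheme.etalePrecoverage T) :=
    PreservesColimitsOfSize.preservesFiniteColimits _
  haveI : PreservesColimitsOfSize.{0, 0} (BigSite.piEtPull Scheme.etalePrecoverage S) :=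
    (BigSite.piEtAdj Scheme.etalePrecoverage S).leftAdjoint_preservesColimits
  haveI : PreservesFiniteColimits (BigSite.piEtPull Scheme.etalePrecoverage S) :=
    PreservesColimitsOfSize.preservesFiniteColimits _
  haveI : (BigSite.piEtPull Scheme.etalePrecoverage S).Additive :=
    (BigSite.piEtAdj Scheme.etalePrecoverage S).left_adjoint_additive
  haveI : (EtCoh.push f).Additive := { }
  refine nonempty_rightDerived_comm (EtCoh.push f) (BigSite.pushBig Scheme.etalePrecoverage f AddCommGrpCat.{u + 1})
    (BigSite.piEtPull Scheme.etalePrecoverage T) (BigSite.piEtPull Scheme.etalePrecoverage S) (phiAb f)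
    EtCoh.IsTorsion (fun G hG => ?_) q F hF
  obtain ⟨J, hJ, m, hm⟩ := exists_mono_tor hG
  haveI := hJ
  refine ⟨tor J, m, hm, isTorsion_cokernel m (isTorsion_tor J), fun p hp => isZero_Rpush_tor f J p hp, fun p hp => ?_⟩
  refine isZero_bigSite _ fun S' g => ?_
  obtain ⟨e⟩ := Groth.Agent.S6686.result f g (pullback.fst f g) (pullback.snd f g) (IsPullback.of_hasPullback f g)
    ((BigSite.piEtPull Scheme.etalePrecoverage T).obj (tor J)) p
  obtain ⟨c⟩ := BigEtLib.nonempty_resEtAlong_piEtPull (pullback.fst f g)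
  exact IsZero.of_iso (isZero_Rpush_pull_tor f g _ _ (IsPullback.of_hasPullback f g) J p hp)
    (e ≪≫ (EtCoh.Rpush (pullback.snd f g) p).mapIso (c.app (tor J)))

end EtPBCProperLib

end
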