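import Groth.Agent.EtPBCProperLib.Root
import Groth.Agent.H90Lib.PicIso
import Groth.Agent.TwistLib.ProjSymExt
import Groth.Agent.EtShLib.FlasquePush

/-!
# The class in `H¹(G_m)` of the inverse image of an invertible module
-/

set_option autoImplicit false
set_option linter.style.haveILetI false
set_option linter.unusedSectionVars false
set_option backward.isDefEq.respectTransparency false
set_option backward.isDefEq.respectTransparency.types false
set_option synthInstance.maxHeartbeats 400000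
set_option maxHeartbeats 1000000

universe u

open CategoryTheory CategoryTheory.Limits CategoryTheory.Abelian AlgebraicGeometry Opposite
open Groth.Agent.EtShLib EtSliceLib MuConstLib H90Lib
open AmpleLib (res GenOn)

noncomputable section

namespace EtPBCProperLib

variable {X X₀ : Scheme.{u}} (i : X₀ ⟶ X)

/-- The inverse image of an open, compared with its base change. -/
def kap (U : X.Opens) : ov (i ⁻¹ᵁ U) ⟶ (EtCoh.bc i).obj (ov U) :=
  MorphismProperty.Over.homMk (pullback.lift (i ∣_ U) (i ⁻¹ᵁ U).ι (morphismRestrict_ι i U))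
    (pullback.lift_snd _ _ _)

theorem hom_bc_ov_ext {Z : X₀.Etale} {U : X.Opens} (p q : Z ⟶ (EtCoh.bc i).obj (ov U)) : p = q := by
  haveI : Mono (pullback.snd U.ι i) := inferInstance
  exact MorphismProperty.Over.Hom.ext ((cancel_mono (pullback.snd U.ι i)).1
    ((MorphismProperty.Over.w p).trans (MorphismProperty.Over.w q).symm))

variable {i}

/-- A section of a direct image over an open as a section over the inverse image. -/
def tr (G : EtCoh.Ab X₀) (U : X.Opens) :
    ToType (((EtCoh.push i).obj G).obj.obj (op (ov U))) →+ ToType (G.obj.obj (op (ov (i ⁻¹ᵁ U)))) :=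
  (G.obj.map (kap i U).op).hom

theorem tr_rsv (G : EtCoh.Ab X₀) {U V : X.Opens} (h : V ≤ U) (s : ToType (((EtCoh.push i).obj G).obj.obj (op (ov U)))) :
    tr G V (rsv ((EtCoh.push i).obj G) h s) = rsv G (i.preimage_mono h) (tr G U s) := by
  show G.obj.map (kap i V).op (G.obj.map ((EtCoh.bc i).map (ovHom h)).op s) = G.obj.map _ (G.obj.map (kap i U).op s)
  rw [map_map, map_map, hom_bc_ov_ext i (kap i V ≫ (EtCoh.bc i).map (ovHom h)) (ovHom (i.preimage_mono h) ≫ kap i U)]

theorem tr_app {G H : EtCoh.Ab X₀} (φ : G ⟶ H) (U : X.Opens)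
    (s : ToType (((EtCoh.push i).obj G).obj.obj (op (ov U)))) :
    tr H U (((EtCoh.push i).map φ).hom.app (op (ov U)) s) = φ.hom.app _ (tr G U s) :=
  (NatTrans.naturality_apply φ.hom (kap i U).op s).symm

theorem uVal_tr (U : X.Opens) (a : ToType ((EtCoh.Gm X).obj.obj (op (ov U)))) :
    uVal (i ⁻¹ᵁ U) (tr (EtCoh.Gm X₀) U ((EtLim.GmPush i).hom.app (op (ov U)) a)) = (i.app U).hom (uVal U a) := by
  show (i ⁻¹ᵁ U).topIso.hom.hom ((kap i U).left.appTop.hom ((pullback.fst U.ι i).appTop.hom (gmVal X a))) = _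
  have e : (kap i U).left ≫ pullback.fst U.ι i = i ∣_ U := pullback.lift_fst _ _ _
  have h := congrArg (fun t : (i ⁻¹ᵁ U).toScheme ⟶ U.toScheme => t.appTop.hom (gmVal X a)) e
  simp only [Scheme.Hom.comp_appTop, CommRingCat.comp_apply] at h
  refine (congrArg (i ⁻¹ᵁ U).topIso.hom.hom h).trans ?_
  have key : (i ∣_ U).appTop ≫ (i ⁻¹ᵁ U).topIso.hom = U.topIso.hom ≫ i.app U := by
    rw [morphismRestrict_appTop, Category.assoc]
    show _ ≫ X₀.presheaf.map _ ≫ X₀.presheaf.map _ = X.presheaf.map _ ≫ i.app U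
    rw [i.naturality, ← Functor.map_comp]
    rfl
  exact congrArg (fun t : Γ(U.toScheme, ⊤) ⟶ Γ(X₀, i ⁻¹ᵁ U) => t.hom (gmVal X a)) key

theorem secAt_eq {Q : EtCoh.Ab X} (s : EtCoh.const X ℤ ⟶ Q) (W : X.Opens) :
    secAt s W = Q.obj.map ((EtCore.topIsTerminal X).from (ov W)).op
      ((EtCore.constAdj X).homEquiv _ _ s (ULift.up 1)) := by
  rw [secAt, DescSecLib.constAdj_homEquiv_apply]
  refine congrArg _ ?_
  show s.hom.app _ ((toConst (EtCoh.top X)).hom.app (op (EtCoh.top X)) (gen (EtCoh.top X))) = _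
  rw [toConst, desc_gen, (EtCore.topIsTerminal X).hom_ext ((EtCore.topIsTerminal X).from (EtCoh.top X)) (𝟙 _)]
  simp

theorem secAt_adjoint {Q : EtCoh.Ab X₀} (g : EtCoh.const X ℤ ⟶ (EtCoh.push i).obj Q) (U : X.Opens) :
    secAt ((EtCore.pullConst i ℤ).inv ≫ ((EtCoh.pullPushAdj i).homEquiv _ _).symm g) (i ⁻¹ᵁ U) =
      tr Q U (secAt g U) := by
  rw [secAt_eq, secAt_eq, homEquiv_pullConst X i,
    show (EtCore.pullConstIso i).hom.app (AddCommGrpCat.of (ULift.{u + 1} ℤ)) ≫ (EtCore.pullConst i ℤ).inv ≫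
      ((EtCoh.pullPushAdj i).homEquiv _ _).symm g = ((EtCoh.pullPushAdj i).homEquiv _ _).symm g from
      (EtCore.pullConst i ℤ).hom_inv_id_assoc _, Equiv.apply_symm_apply]
  refine (map_map Q _ (EtCore.bcTopIso i).inv _).trans (Eq.trans ?_
    (map_map Q (kap i U) ((EtCoh.bc i).map ((EtCore.topIsTerminal X).from (ov U))) _).symm)
  exact congrArg (fun t : ov (i ⁻¹ᵁ U) ⟶ (EtCoh.bc i).obj (EtCoh.top X) => Q.obj.map t.op _)
    ((EtCore.bcTopIsTerminal i).hom_ext _ _)

/-- The class of the inverse image is the inverse image of the class. -/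
theorem repClass_pull [PreservesFiniteLimits (EtCoh.pull i)] {L : X.Modules} {c : EtCoh.H X (EtCoh.Gm X) 1}
    (h : RepClass L c) : RepClass ((Scheme.Modules.pullback i).obj L) (EtLim.HGmPull i 1 c) := by
  obtain ⟨U, e, b, s, hxU, he, rfl, hb, hab⟩ := h
  haveI := EtCore.pull_preservesFiniteColimits i
  haveI : (EtCoh.push i).Additive := { }
  haveI : Injective ((EtCoh.push i).obj (gmSeq X₀).X₂) := Groth.Agent.EtShLib.injective_push i _
  haveI : Mono (gmSeq X).f := (gmSeq_shortExact X).mono_f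
  let φ₂ : (gmSeq X).X₂ ⟶ (EtCoh.push i).obj (gmSeq X₀).X₂ :=
    Injective.factorThru (EtLim.GmPush i ≫ (EtCoh.push i).map (gmSeq X₀).f) (gmSeq X).f
  have hφ₂ : (gmSeq X).f ≫ φ₂ = EtLim.GmPush i ≫ (EtCoh.push i).map (gmSeq X₀).f := Injective.comp_factorThru _ _
  let φ₃ : (gmSeq X).X₃ ⟶ (EtCoh.push i).obj (gmSeq X₀).X₃ :=
    cokernel.desc _ (φ₂ ≫ (EtCoh.push i).map (gmSeq X₀).g) (by
      rw [← Category.assoc, show (EnoughInjectives.presentation (EtCoh.Gm X)).some.f ≫ φ₂ = _ from hφ₂,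
        Category.assoc, ← Functor.map_comp, (gmSeq X₀).zero, Functor.map_zero, comp_zero])
  have hφ₃ : (gmSeq X).g ≫ φ₃ = φ₂ ≫ (EtCoh.push i).map (gmSeq X₀).g := cokernel.π_desc _ _ _
  let adj := EtCoh.pullPushAdj i
  let Φ : (gmSeq X).map (EtCoh.pull i) ⟶ gmSeq X₀ :=
    { τ₁ := DivSeqLib.thetaGm i
      τ₂ := (adj.homEquiv _ _).symm φ₂
      τ₃ := (adj.homEquiv _ _).symm φ₃
      comm₁₂ := by
        apply (adj.homEquiv _ _).injective
        show adj.homEquiv _ _ (DivSeqLib.thetaGm i ≫ (gmSeq X₀).f) =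
          adj.homEquiv _ _ ((EtCoh.pull i).map (gmSeq X).f ≫ (adj.homEquiv _ _).symm φ₂)
        rw [Adjunction.homEquiv_naturality_right, Adjunction.homEquiv_naturality_left, Equiv.apply_symm_apply,
          DivSeqLib.homEquiv_thetaGm]
        exact hφ₂.symm
      comm₂₃ := by
        apply (adj.homEquiv _ _).injective
        show adj.homEquiv _ _ ((adj.homEquiv _ _).symm φ₂ ≫ (gmSeq X₀).g) =
          adj.homEquiv _ _ ((EtCoh.pull i).map (gmSeq X).g ≫ (adj.homEquiv _ _).symm φ₃)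
        rw [Adjunction.homEquiv_naturality_right, Adjunction.homEquiv_naturality_left, Equiv.apply_symm_apply,
          Equiv.apply_symm_apply]
        exact hφ₃.symm }
  let s₀ : EtCoh.const X₀ ℤ ⟶ (gmSeq X₀).X₃ := (EtCore.pullConst i ℤ).inv ≫ (adj.homEquiv _ _).symm (s ≫ φ₃)
  have hs₀ : EtLim.HGmPull i 1 (del s) = del s₀ := by
    rw [DivSeqLib.HGmPull_eq]
    show Ext.comp (EtCore.Hpull i (gmSeq X).X₁ 1 (Ext.comp (Ext.mk₀ s) (gmSeq_shortExact X).extClass rfl))
      (Ext.mk₀ (DivSeqLib.thetaGm i)) (add_zero 1) = _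
    rw [EtAcycLib.Hpull_delta i (gmSeq_shortExact X),
      Ext.comp_assoc_of_third_deg_zero,
      show (((gmSeq_shortExact X).map_of_exact (EtCoh.pull i)).extClass).comp (Ext.mk₀ (DivSeqLib.thetaGm i)) (add_zero 1) =
        (Ext.mk₀ Φ.τ₃).comp (gmSeq_shortExact X₀).extClass (zero_add 1) from
        ShortComplex.ShortExact.extClass_naturality ((gmSeq_shortExact X).map_of_exact (EtCoh.pull i)) (gmSeq_shortExact X₀) Φ,
      ← Ext.comp_assoc_of_second_deg_zero]
    refine congrArg (fun t => Ext.comp t (gmSeq_shortExact X₀).extClass (zero_add 1)) ?_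
    show Ext.comp ((Ext.mk₀ (EtCore.pullConst i ℤ).inv).comp ((Ext.mk₀ s).mapExactFunctor (EtCoh.pull i)) (zero_add 0))
      (Ext.mk₀ Φ.τ₃) (add_zero 0) = Ext.mk₀ s₀
    rw [Ext.mapExactFunctor_mk₀, Ext.mk₀_comp_mk₀, Ext.mk₀_comp_mk₀, Category.assoc]
    exact congrArg Ext.mk₀ (congrArg ((EtCore.pullConst i ℤ).inv ≫ ·) (adj.homEquiv_naturality_left_symm s φ₃).symm)
  have he' : ∀ x, GenOn ((Scheme.Modules.pullback i).obj L) (KFlatLib.puSec i (e (i.base x))) := fun x =>
    TwistLib.genOn_of_genAt fun z hz => TwistLib.GenAt.puSec i ((he (i.base x)).genAt hz)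
  rw [hs₀]
  refine ⟨fun x => i ⁻¹ᵁ U (i.base x), fun x => KFlatLib.puSec i (e (i.base x)),
    fun x => tr _ _ (φ₂.hom.app _ (b (i.base x))), s₀, fun x => hxU (i.base x), he', rfl, fun x => ?_,
    fun x y W hx hy a ha => ?_⟩
  · rw [secAt_adjoint, secAt_comp, ← hb, ← tr_app]
    refine congrArg (tr _ _) ?_
    exact (congrArg (fun t => t.hom.app (op (ov (U (i.base x)))) (b (i.base x))) hφ₃).symm
  · let V := U (i.base x) ⊓ U (i.base y)
    obtain ⟨r, hr⟩ := exists_unit_change (he (i.base x)) (he (i.base y)) (inf_le_left : V ≤ U (i.base x)) inf_le_right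
    have hW : W ≤ i ⁻¹ᵁ V := le_inf hx hy
    let r₀ := rsv (EtCoh.Gm X₀) hW (tr (EtCoh.Gm X₀) V ((EtLim.GmPush i).hom.app _ r))
    have h1 := congrArg (res _ hW) (congrArg (KFlatLib.puSec i) hr)
    rw [TwistLib.puSec_smul, TwistLib.puSec_res, TwistLib.puSec_res, AmpleLib.res_res, AmpleLib.res_smul,
      AmpleLib.res_res, ← uVal_tr, ← uVal_rsv] at h1
    have hr₀ : r₀ = a := uVal_ext (he' y) hy (h1.symm.trans ha)
    have h2 := congrArg (tr (gmSeq X₀).X₂ V) (congrArg (φ₂.hom.app _) (hab (i.base x) (i.base y) V inf_le_left inf_le_right r hr))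
    rw [map_sub, map_sub, rsv_app, rsv_app, tr_rsv, tr_rsv] at h2
    have h3 : tr (gmSeq X₀).X₂ V (φ₂.hom.app _ (emb V r)) =
        emb _ (tr (EtCoh.Gm X₀) V ((EtLim.GmPush i).hom.app _ r)) := by
      refine Eq.trans ?_ (tr_app (gmSeq X₀).f V _)
      exact congrArg (fun t => tr (gmSeq X₀).X₂ V (t.hom.app (op (ov V)) r)) hφ₂
    rw [h3] at h2
    have h4 := congrArg (rsv _ hW) h2
    rw [map_sub, rsv_rsv, rsv_rsv, ← emb_rsv] at h4
    rw [← hr₀]
    exact h4

theorem surjective_HGmPull [PreservesFiniteLimits (EtCoh.pull i)]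
    (hlift : ∀ {L₀ : X₀.Modules}, PicF.IsInvertible L₀ →
      ∃ N : X.Modules, PicF.IsInvertible N ∧ Nonempty ((Scheme.Modules.pullback i).obj N ≅ L₀)) :
    Function.Surjective (EtLim.HGmPull i 1) := fun a => by
  obtain ⟨M, hM, hMa⟩ := exists_module_repClass a
  obtain ⟨N, hN, ⟨φ⟩⟩ := hlift hM
  obtain ⟨c, hc⟩ := exists_repClass hN
  exact ⟨c, ((repClass_pull hc).of_iso φ).unique hMa⟩

end EtPBCProperLib

end
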