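import Groth.Agent.MuConstLib.Main
import Groth.Agent.DivSeqLib.HGm
import Groth.Agent.EtKummerLib.Basic
import Groth.Agent.EtTransferLib.Basic
import Groth.Agent.EtAcycLib.Chase
import Groth.Agent.EtAcycLib.Range

/-!
# The Kummer sequence attached to a primitive root of unity, and its inverse images
-/

set_option autoImplicit false
set_option linter.style.haveILetI false
set_option linter.unusedSectionVars false
set_option backward.isDefEq.respectTransparency false
set_option backward.isDefEq.respectTransparency.types false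
set_option synthInstance.maxHeartbeats 400000
set_option maxHeartbeats 1000000

universe u

open CategoryTheory CategoryTheory.Limits AlgebraicGeometry Opposite Groth.Agent.EtShLib Polynomial
open MuConstLib CategoryTheory.Abelian

noncomputable section

namespace EtPBCProperLib

variable (X : Scheme.{u})

/-- The map from the constant sheaf to `G_m` given by a root of unity. -/
def rootHom (n : ℕ) [NeZero n] (ζ : Γ(X, ⊤)) (hζ : Polynomial.aeval ζ (cyclotomic n ℤ) = 0) :
    EtCoh.const X (ZMod n) ⟶ EtCoh.Gm X := ((EtCore.constAdj X).homEquiv _ _).symm (gmRoot X n ζ hζ)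

theorem rootHom_kummer (n : ℕ) [NeZero n] (hu : IsUnit (n : Γ(X, ⊤))) (ζ : Γ(X, ⊤))
    (hζ : Polynomial.aeval ζ (cyclotomic n ℤ) = 0) :
    ∃ hw : rootHom X n ζ hζ ≫ EtCoh.powMap X n = 0, (ShortComplex.mk _ _ hw).ShortExact := by
  let A := AddCommGrpCat.{u + 1}
  let f := gmRoot X n ζ hζ
  let ψ : EtCoh.const X (ZMod n) ⟶ EtCoh.Gm X := ((EtCore.constAdj X).homEquiv _ _).symm f
  let hT := EtCore.topIsTerminal X
  let η : AddCommGrpCat.of (ULift.{u + 1} (ZMod n)) ⟶ (EtCoh.const X (ZMod n)).obj.obj (op (EtCoh.top X)) :=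
    (toSheafify X.smallEtaleTopology ((Functor.const (X.Etale)ᵒᵖ).obj _)).app (op (EtCoh.top X))
  have h : IsCst (EtCoh.const X (ZMod n)) (EtCoh.top X) η := ConstUnitLib.isCst_const _
  have hη : η ≫ ψ.hom.app (op (EtCoh.top X)) = f := by
    have h' := ((EtCore.constAdj X).homEquiv _ _).apply_symm_apply f
    rw [Adjunction.homEquiv_unit] at h'
    refine Eq.trans ?_ h'
    simp [η, ψ, EtCore.constAdj, constantSheafAdj, constantPresheafAdj]
  have hw : ψ ≫ EtCoh.powMap X n = 0 := by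
    apply ((EtCore.constAdj X).homEquiv _ _).injective
    rw [Adjunction.homEquiv_naturality_right, show ((EtCore.constAdj X).homEquiv _ _) ψ = f from
      ((EtCore.constAdj X).homEquiv _ _).apply_symm_apply f, Adjunction.homEquiv_unit]
    ext m
    show (n • f m : ToType ((EtCore.gsec X).obj (EtCoh.Gm X))) = _
    rw [← map_nsmul, show n • m = 0 from ULift.ext _ _ (by
      show n • m.down = 0
      rw [nsmul_eq_mul, ZMod.natCast_self, zero_mul]), map_zero]
    simp
  have hval : ∀ (W : X.Etale) (m : ULift.{u + 1} (ZMod n)),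
      gmVal X (ψ.hom.app (op W) (ConstUnitLib.cSec hT η W m)) = (W.hom.appTop.hom ζ) ^ m.down.val := fun W m => by
    have e : ψ.hom.app (op W) (ConstUnitLib.cSec hT η W m) =
        (EtCoh.Gm X).obj.map (hT.from W).op (f m) := by
      refine (NatTrans.naturality_apply ψ.hom (hT.from W).op (η m)).trans ?_
      rw [← hη]
      rfl
    have hleft : (hT.from W).left = W.hom :=
      (Category.comp_id _).symm.trans (MorphismProperty.Over.w (hT.from W))
    rw [e, ← hleft]
    rw [gmVal_map, ← map_pow]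
    exact congrArg _ (gmVal_gmRoot X n ζ hζ m)
  haveI : ∀ (Ω : Type u) [Field Ω] [IsSepClosed Ω] (ξ : Spec (CommRingCat.of Ω) ⟶ X),
      Mono ((stk (A := A) ξ).map ψ) := fun Ω _ _ ξ => by
    rw [AddCommGrpCat.mono_iff_injective]
    intro p q e
    obtain ⟨W, w, x, rfl⟩ := exists_germ ξ p
    obtain ⟨V, k, v, y, hv, rfl⟩ := exists_germ_below ξ q W w
    subst hv
    obtain ⟨i, hi⟩ := (ConstUnitLib.bijective_germ_cSec (hT := hT) h (v.map k)).2 (germ (A := A) ξ (EtCoh.const X (ZMod n)) W (v.map k) x)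
    obtain ⟨j, hj⟩ := (ConstUnitLib.bijective_germ_cSec (hT := hT) h v).2 (germ (A := A) ξ (EtCoh.const X (ZMod n)) V v y)
    dsimp only at hi hj
    rw [← hi, ← germ_res_apply, ConstUnitLib.cSec_res, ← hj] at e ⊢
    obtain ⟨P, l, r, -, he⟩ := (germ_eq_iff ξ V v _ _).1
      ((germ_natural_apply ξ ψ V v _).symm.trans (e.trans (germ_natural_apply ξ ψ V v _)))
    have e2 : ψ.hom.app (op P) (ConstUnitLib.cSec hT η P i) = ψ.hom.app (op P) (ConstUnitLib.cSec hT η P j) := by
      rw [← ConstUnitLib.cSec_res hT η l, ← ConstUnitLib.cSec_res hT η l]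
      exact (NatTrans.naturality_apply ψ.hom l.op _).trans (he.trans (NatTrans.naturality_apply ψ.hom l.op _).symm)
    haveI : Nontrivial Γ(P.left, ⊤) := ((P.left.presheaf.germ ⊤ r.pt trivial).hom).domain_nontrivial
    have e3 := (hval P i).symm.trans ((congrArg (gmVal X (W := P)) e2).trans (hval P j))
    have hij : i = j := ULift.ext _ _ (ZMod.val_injective n (pow_injective
      (map_natCast P.hom.appTop.hom n ▸ hu.map P.hom.appTop.hom)
      (aeval_map _ hζ)
      (ZMod.val_lt _) (ZMod.val_lt _) e3))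
    rw [hij]
  let S := ShortComplex.mk ψ (EtCoh.powMap X n) hw
  have hS : S.Exact := by
    refine (exact_iff_stalks S).2 fun Ω _ _ ξ => (ShortComplex.ab_exact_iff _).2 fun p hp => ?_
    obtain ⟨W, w, x, rfl⟩ := exists_germ (A := A) ξ p
    have hp' : germ (A := A) ξ (EtCoh.Gm X) W w ((EtCoh.powMap X n).hom.app (op W) x) =
        germ (A := A) ξ (EtCoh.Gm X) W w 0 := by
      rw [map_zero, ← germ_natural_apply]
      exact hp
    obtain ⟨V, k, v, hv, he⟩ := (germ_eq_iff ξ W w _ _).1 hp'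
    subst hv
    rw [map_zero, ← NatTrans.naturality_apply] at he
    rw [← germ_res_apply]
    generalize (EtCoh.Gm X).obj.map k.op x = y at he ⊢
    have hy : gmVal X y ^ n = 1 := (gmVal_nsmul X n y).symm.trans
      ((congrArg (gmVal X (W := V)) (show n • y = 0 from he)).trans rfl)
    let g := (V.left.presheaf.germ ⊤ v.pt trivial).hom
    obtain ⟨i, hi, hxi⟩ := eq_pow_of_pow_eq_one (x := g (gmVal X y)) (ζ := g (V.hom.appTop.hom ζ))
      (map_natCast (g.comp V.hom.appTop.hom) n ▸ hu.map (g.comp V.hom.appTop.hom))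
      (aeval_map g (aeval_map _ hζ))
      (by rw [← map_pow, hy, map_one])
    rw [← map_pow] at hxi
    obtain ⟨O, hO, i₁, i₂, hOe⟩ := V.left.presheaf.germ_eq (U := ⊤) (V := ⊤) v.pt trivial trivial _ _ hxi
    let O' : V.left.Opens := O
    let P : X.Etale := MorphismProperty.Over.mk ⊤ (O'.ι ≫ V.hom)
      (MorphismProperty.IsStableUnderComposition.comp_mem _ _
        (inferInstanceAs (AlgebraicGeometry.Etale O'.ι)) V.prop)
    let q : P ⟶ V := MorphismProperty.Over.homMk O'.ι rfl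
    obtain ⟨l, hl, -⟩ := Scheme.exists_fac_of_etale_of_isSepClosed O'.ι v.hom ⟨v.pt, hO⟩ rfl
    let r : Fib ξ P := Fib.mk l (by
      show l ≫ O'.ι ≫ V.hom = ξ
      rw [← Category.assoc, hl, Fib.w])
    have hr : r.map q = v := Fib.ext ((Fib.map_hom q r).trans hl)
    refine ⟨germ ξ (EtCoh.const X (ZMod n)) P r (ConstUnitLib.cSec hT η P (ULift.up (i : ZMod n))), ?_⟩
    refine (germ_natural_apply ξ ψ P r _).trans ?_
    rw [← hr, ← germ_res_apply]
    refine congrArg (fun t => germ (A := A) ξ (EtCoh.Gm X) P r t) (gmVal_injective X ((hval P _).trans ?_))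
    rw [gmVal_map]
    show ((O'.ι ≫ V.hom).appTop.hom ζ) ^ (i : ZMod n).val = O'.ι.appTop.hom (gmVal X y)
    rw [ZMod.val_natCast, Nat.mod_eq_of_lt hi, Scheme.Hom.comp_appTop, CommRingCat.comp_apply, ← map_pow]
    rw [Scheme.Opens.ι_appTop]
    exact restr_eq i₁ i₂ hOe (le_of_eq O'.ι_image_top) _
  haveI : Mono ψ := (mono_iff_stalks ψ).2 fun Ω _ _ ξ => inferInstance
  exact ⟨hw, { exact := hS, mono_f := inferInstanceAs (Mono ψ), epi_g := Groth.Agent.EtShLib.epi_powMap X n hu }⟩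

theorem homEquiv_pullConst {X₀ : Scheme.{u}} (i : X₀ ⟶ X) (M : AddCommGrpCat.{u + 1}) {G : EtCoh.Ab X₀}
    (g : (constantSheaf X₀.smallEtaleTopology AddCommGrpCat.{u + 1}).obj M ⟶ G) :
    (EtCore.constAdj X₀).homEquiv M G g =
      (EtCore.constAdj X).homEquiv M ((EtCoh.push i).obj G)
        ((EtCoh.pullPushAdj i).homEquiv _ G ((EtCore.pullConstIso i).hom.app M ≫ g)) ≫
          (EtCore.pushGsecIso i).hom.app G := by
  let adj1 := ((EtCore.constAdj X).comp (EtCoh.pullPushAdj i)).ofNatIsoRight (EtCore.pushGsecIso i)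
  have h1 : adj1.homEquiv M G ((EtCore.pullConstIso i).hom.app M ≫ g) = (EtCore.constAdj X₀).homEquiv M G g := by
    rw [Adjunction.homEquiv_naturality_right]
    show adj1.homEquiv M _ ((Adjunction.leftAdjointUniq adj1 (EtCore.constAdj X₀)).hom.app M) ≫ _ = _
    rw [Adjunction.homEquiv_leftAdjointUniq_hom_app, Adjunction.homEquiv_unit]
  rw [← h1]
  rw [Adjunction.homEquiv_unit, Adjunction.homEquiv_unit, Adjunction.homEquiv_unit]
  show ((((EtCore.constAdj X).comp (EtCoh.pullPushAdj i)).unit.app M ≫ (EtCore.pushGsecIso i).hom.app _) ≫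
    (EtCore.gsec X₀).map _ = _)
  rw [Category.assoc, ← (EtCore.pushGsecIso i).hom.naturality, Adjunction.comp_unit_app]
  simp [Category.assoc]

/-- Inverse images of the root of unity map. -/
theorem rootHom_pull {X₀ : Scheme.{u}} (i : X₀ ⟶ X) (n : ℕ) [NeZero n] (ζ : Γ(X, ⊤))
    (hζ : Polynomial.aeval ζ (cyclotomic n ℤ) = 0) :
    (EtCoh.pull i).map (rootHom X n ζ hζ) ≫ DivSeqLib.thetaGm i =
      (EtCore.pullConst i (ZMod n)).hom ≫ rootHom X₀ n (i.appTop.hom ζ) (MuConstLib.aeval_map _ hζ) := by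
  rw [← Iso.inv_comp_eq]
  apply ((EtCore.constAdj X₀).homEquiv _ _).injective
  rw [homEquiv_pullConst X i]
  refine Eq.trans ?_ (Equiv.apply_symm_apply _ _).symm
  show (EtCore.constAdj X).homEquiv _ _ ((EtCoh.pullPushAdj i).homEquiv _ _
    ((EtCore.pullConst i (ZMod n)).hom ≫ (EtCore.pullConst i (ZMod n)).inv ≫ _)) ≫ _ = _
  rw [Iso.hom_inv_id_assoc, Adjunction.homEquiv_naturality_left, DivSeqLib.homEquiv_thetaGm,
    Adjunction.homEquiv_naturality_right, rootHom, Equiv.apply_symm_apply]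
  ext m
  refine MuConstLib.gmVal_injective X₀ (W := EtCoh.top X₀) ?_
  refine Eq.trans ?_ (gmVal_gmRoot X₀ n (i.appTop.hom ζ) (MuConstLib.aeval_map _ hζ) m).symm
  show (EtCore.bcTopIso i).inv.left.appTop.hom ((pullback.fst (EtCoh.top X).hom i).appTop.hom
    (gmVal X (W := EtCoh.top X) (gmRoot X n ζ hζ m))) = _
  rw [gmVal_gmRoot, ← map_pow]
  have e : (EtCore.bcTopIso i).inv.left ≫ pullback.fst (EtCoh.top X).hom i = i := by
    have h1 : (EtCore.bcTopIso i).inv.left ≫ pullback.snd (EtCoh.top X).hom i = 𝟙 X₀ :=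
      MorphismProperty.Over.w (EtCore.bcTopIso i).inv
    calc (EtCore.bcTopIso i).inv.left ≫ pullback.fst (EtCoh.top X).hom i
        = (EtCore.bcTopIso i).inv.left ≫ pullback.fst (EtCoh.top X).hom i ≫ (EtCoh.top X).hom :=
          (congrArg _ (Category.comp_id _)).symm
      _ = (EtCore.bcTopIso i).inv.left ≫ pullback.snd (EtCoh.top X).hom i ≫ i := by rw [pullback.condition]
      _ = i := by rw [← Category.assoc, h1]; exact Category.id_comp i
  exact congrArg (fun t : X₀ ⟶ X => t.appTop.hom (ζ ^ m.down.val)) e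

/-- Surjectivity on `H^2` of constant coefficients from that on the Picard groups. -/
theorem surjective_H2_const {X₀ : Scheme.{u}} (i : X₀ ⟶ X) [PreservesFiniteLimits (EtCoh.pull i)]
    (n : ℕ) [NeZero n] (hu : IsUnit (n : Γ(X, ⊤))) (ζ : Γ(X, ⊤))
    (hζ : Polynomial.aeval ζ (cyclotomic n ℤ) = 0)
    (hBr : ∀ ξ : EtCoh.H X₀ (EtCoh.Gm X₀) 2, n • ξ = 0 → ξ = 0)
    (hPic : Function.Surjective (EtLim.HGmPull i 1)) :
    Function.Surjective (EtCore.Hpull i (EtCoh.const X (ZMod n)) 2) := fun y => by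
  haveI := EtCore.pull_preservesFiniteColimits i
  haveI : (EtCoh.pull i).Additive := (EtCoh.pullPushAdj i).left_adjoint_additive
  obtain ⟨hw, hS⟩ := rootHom_kummer X n hu ζ hζ
  obtain ⟨hw₀, hS₀⟩ := rootHom_kummer X₀ n (map_natCast i.appTop.hom n ▸ hu.map i.appTop.hom)
    (i.appTop.hom ζ) (MuConstLib.aeval_map _ hζ)
  let c := (EtCore.pullConst i (ZMod n)).hom
  let S := ShortComplex.mk _ _ hw
  let S₀ := ShortComplex.mk _ _ hw₀
  let φ : S.map (EtCoh.pull i) ⟶ S₀ :=
    { τ₁ := c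
      τ₂ := DivSeqLib.thetaGm i
      τ₃ := DivSeqLib.thetaGm i
      comm₁₂ := (rootHom_pull X i n ζ hζ).symm
      comm₂₃ := by
        show DivSeqLib.thetaGm i ≫ (n • 𝟙 (EtCoh.Gm X₀)) = (EtCoh.pull i).map (n • 𝟙 (EtCoh.Gm X)) ≫ DivSeqLib.thetaGm i
        rw [Functor.map_nsmul, CategoryTheory.Functor.map_id, Preadditive.comp_nsmul, Preadditive.nsmul_comp,
          Category.comp_id, Category.id_comp] }
  let y₀ : EtCoh.H X₀ S₀.X₁ 2 := Ext.comp (y : Ext.{u + 1} _ _ 2) (Ext.mk₀ c) (add_zero 2)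
  have h0 : Ext.comp y₀ (Ext.mk₀ S₀.f) (add_zero 2) = 0 := by
    refine hBr _ ?_
    rw [← EtTransferLib.comp_mk₀_nsmul]
    rw [Ext.comp_assoc_of_second_deg_zero, Ext.mk₀_comp_mk₀]
    exact (congrArg (fun t => Ext.comp y₀ (Ext.mk₀ t) (add_zero 2)) S₀.zero).trans (by rw [Ext.mk₀_zero, Ext.comp_zero])
  obtain ⟨a, ha⟩ := Ext.covariant_sequence_exact₁ _ hS₀ y₀ h0 (n₀ := 1) rfl
  obtain ⟨b, hb⟩ := hPic a
  rw [DivSeqLib.HGmPull_eq] at hb
  refine ⟨b.comp hS.extClass rfl, ?_⟩
  refine (EtAcycLib.bijective_mk₀_iso_postcomp (EtCore.pullConst i (ZMod n)) 2).1 ?_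
  show Ext.comp (EtCore.Hpull i S.X₁ 2 (b.comp hS.extClass rfl)) (Ext.mk₀ c) (add_zero 2) = y₀
  rw [← ha, ← hb]
  refine (congrArg (fun t => Ext.comp t (Ext.mk₀ c) (add_zero 2)) (EtAcycLib.Hpull_delta i hS b)).trans ?_
  have hn := ShortComplex.ShortExact.extClass_naturality (hS.map_of_exact (EtCoh.pull i)) hS₀ φ
  rw [Ext.comp_assoc_of_third_deg_zero, Ext.comp_assoc_of_second_deg_zero]
  exact congrArg (fun t => Ext.comp (EtCore.Hpull i S.X₃ 1 b) t rfl) hn

end EtPBCProperLib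

end
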