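import Groth.Agent.EtPBCProperLib.Criterion
import Groth.Agent.EtPBCProperLib.Compose
import Groth.Agent.EtPBCProperLib.Root
import Groth.Agent.EtPBCProperLib.Pic
import Groth.Agent.EtPBCProperLib.SepCurve
import Groth.Agent.PicAmpleLiftLib.Hensel
import Groth.Agent.FEtProperLib.Main
import Groth.Agent.S0540

/-!
# Surjectivity on `H^2` for curves over strictly henselian rings
-/

set_option autoImplicit false
set_option linter.unusedSectionVars false
set_option linter.style.haveILetI false
set_option backward.isDefEq.respectTransparency false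
set_option backward.isDefEq.respectTransparency.types false
set_option maxHeartbeats 1000000
set_option synthInstance.maxHeartbeats 400000

universe u

open CategoryTheory CategoryTheory.Limits CategoryTheory.Abelian AlgebraicGeometry Opposite
open Groth.Agent Groth.Agent.EtShLib FEtProper

attribute [local instance] EtSliceLib.pullExact

noncomputable section

namespace EtPBCProperLib

theorem nsmul_const (Z : Scheme.{u}) (q : ℕ) : q • 𝟙 (EtCoh.const Z (ZMod q)) = 0 := by
  let C := AddCommGrpCat.of (ULift.{u + 1} (ZMod q))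
  haveI : PreservesFiniteLimits (constantSheaf Z.smallEtaleTopology AddCommGrpCat.{u + 1}) := by
    dsimp only [constantSheaf]
    infer_instance
  haveI : (constantSheaf Z.smallEtaleTopology AddCommGrpCat.{u + 1}).Additive :=
    Functor.additive_of_preserves_binary_products _
  have hC : q • 𝟙 C = 0 := by
    refine AddCommGrpCat.ext fun x => ?_
    show AddCommGrpCat.homAddEquiv (q • 𝟙 C) x = AddCommGrpCat.homAddEquiv (0 : C ⟶ C) x
    rw [map_nsmul, AddMonoidHom.nsmul_apply, map_zero, AddMonoidHom.zero_apply]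
    refine ULift.ext _ _ ?_
    show q • x.down = 0
    rw [nsmul_eq_mul, ZMod.natCast_self, zero_mul]
  show q • 𝟙 ((constantSheaf Z.smallEtaleTopology AddCommGrpCat.{u + 1}).obj C) = 0
  rw [← CategoryTheory.Functor.map_id, ← Functor.map_nsmul, hC, Functor.map_zero]

theorem bijective_of_iso {A B : Scheme.{u}} (a : A ⟶ B) [IsIso a] (G : EtCoh.Ab B) (q : ℕ) :
    Function.Bijective (EtCore.Hpull a G q) :=
  Groth.Agent.S0642.result a G q

/-- Invariance under extensions of separably closed fields, for an arbitrary pullback square. -/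
theorem bijective_sepClosed_isPullback {k k' : Type u} [Field k] [IsSepClosed k] [Field k'] [IsSepClosed k']
    [Algebra k k'] {X X' : Scheme.{u}} {f : X ⟶ Spec (CommRingCat.of k)} [IsProper f]
    (hdim : topologicalKrullDim X ≤ 1) {a : X' ⟶ X} {f' : X' ⟶ Spec (CommRingCat.of k')}
    (h : IsPullback a f' f (spR k k')) (F : EtCoh.Ab X) (hF : EtCoh.IsTorsion F) (q : ℕ) :
    Function.Bijective (EtCore.Hpull a F q) :=
  EtExtLib.bijective_comp h.isoPullback.hom (pullback.fst f (spR k k')) a h.isoPullback_hom_fst F q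
    (bijective_of_iso _ _ _) (EtExtLib.bijective_sepClosed f hdim F hF q)

/-- Transport of surjectivity along a morphism of schemes. -/
theorem surjective_transfer {X₁ X Y₁ Y : Scheme.{u}} (i₁ : Y₁ ⟶ X₁) (i : Y ⟶ X) (a : X ⟶ X₁) (a₀ : Y ⟶ Y₁)
    (w : a₀ ≫ i₁ = i ≫ a) (G : EtCoh.Ab X₁) (q : ℕ) (h₁ : Function.Surjective (EtCore.Hpull i₁ G q))
    (h₀ : Function.Surjective (EtCore.Hpull a₀ ((EtCoh.pull i₁).obj G) q)) :
    Function.Surjective (EtCore.Hpull i ((EtCoh.pull a).obj G) q) := fun y => by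
  let e := ((EtCoh.HF Y q).mapIso (((EtCore.pullComp i a).symm ≪≫ EtCore.pullCongr rfl).app G)).addCommGroupIsoToAddEquiv
  let e' := ((EtCoh.HF Y q).mapIso (((EtCore.pullComp a₀ i₁).symm ≪≫ EtCore.pullCongr w).app G)).addCommGroupIsoToAddEquiv
  obtain ⟨z, hz⟩ := h₀ (e'.symm (e y))
  obtain ⟨x, rfl⟩ := h₁ z
  refine ⟨EtCore.Hpull a G q x, e.injective ?_⟩
  have h1 : EtCore.HpullVia i a (i ≫ a) rfl G q (EtCore.Hpull a G q x) = EtCore.Hpull (i ≫ a) G q x :=
    EtExtLib.via_Hpull i a (i ≫ a) rfl G q x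
  have h2 : EtCore.HpullVia a₀ i₁ (i ≫ a) w G q (EtCore.Hpull i₁ G q x) = EtCore.Hpull (i ≫ a) G q x :=
    EtExtLib.via_Hpull a₀ i₁ (i ≫ a) w G q x
  exact (h1.trans h2.symm).trans ((congrArg e' hz).trans (e'.apply_symm_apply _))

theorem surjective_of_iso_sheaf {X Y : Scheme.{u}} (i : Y ⟶ X) {F G : EtCoh.Ab X} (e : F ≅ G) (q : ℕ)
    (h : Function.Surjective (EtCore.Hpull i F q)) : Function.Surjective (EtCore.Hpull i G q) := fun y => by
  obtain ⟨x, hx⟩ := h (Ext.comp (y : Ext.{u + 1} _ _ q) (Ext.mk₀ ((EtCoh.pull i).map e.inv)) (add_zero q))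
  refine ⟨Ext.comp (x : Ext.{u + 1} _ _ q) (Ext.mk₀ e.hom) (add_zero q), ?_⟩
  rw [EtAcycLib.Hpull_postcomp, hx, Ext.comp_assoc_of_second_deg_zero, Ext.mk₀_comp_mk₀, ← Functor.map_comp,
    e.inv_hom_id, CategoryTheory.Functor.map_id, Ext.comp_mk₀_id]

/-- The structure map to global sections. -/
abbrev toΓ {A : Type u} [CommRing A] {X : Scheme.{u}} (f : X ⟶ Spec (CommRingCat.of A)) : A →+* Γ(X, ⊤) :=
  ((Scheme.ΓSpecIso (CommRingCat.of A)).inv ≫ f.appTop).hom

theorem exists_root_cyclotomic (A : Type u) [CommRing A] [HenselianLocalRing A]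
    [IsSepClosed (IsLocalRing.ResidueField A)] (n : ℕ) [NeZero n] (hn : IsUnit (n : A)) :
    ∃ ζ : A, Polynomial.aeval ζ (Polynomial.cyclotomic n ℤ) = 0 := by
  let k := IsLocalRing.ResidueField A
  have hnk : (n : k) ≠ 0 := by
    rw [← map_natCast (IsLocalRing.residue A)]
    exact (hn.map _).ne_zero
  haveI : NeZero (n : k) := ⟨hnk⟩
  obtain ⟨r, hr⟩ := IsSepClosed.exists_root (Polynomial.cyclotomic n k)
    (Polynomial.degree_cyclotomic_pos n k (NeZero.pos n)).ne' (Polynomial.separable_cyclotomic n k)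
  obtain ⟨a₀, rfl⟩ := IsLocalRing.residue_surjective r
  have hd : (Polynomial.cyclotomic n k).derivative.eval (IsLocalRing.residue A a₀) ≠ 0 :=
    (Polynomial.separable_cyclotomic n k).eval₂_derivative_ne_zero (RingHom.id k) hr
  rw [Polynomial.IsRoot, ← Polynomial.map_cyclotomic n (IsLocalRing.residue A), Polynomial.eval_map_apply] at hr
  rw [← Polynomial.map_cyclotomic n (IsLocalRing.residue A), Polynomial.derivative_map,
    Polynomial.eval_map_apply] at hd
  obtain ⟨ζ, hζ, -⟩ := HenselianLocalRing.is_henselian (Polynomial.cyclotomic n A) (Polynomial.cyclotomic.monic n A) a₀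
    ((IsLocalRing.residue_eq_zero_iff _).1 hr) ((IsLocalRing.residue_ne_zero_iff_isUnit _).1 hd)
  refine ⟨ζ, ?_⟩
  rw [Polynomial.aeval_def, ← Polynomial.eval_map, Polynomial.map_cyclotomic]
  exact hζ

theorem range_fst_cp {A : Type u} [CommRing A] [IsLocalRing A] {X : Scheme.{u}} (f : X ⟶ Spec (CommRingCat.of A)) :
    Set.range (pullback.fst f (cp A)).base = f.base ⁻¹' {IsLocalRing.closedPoint A} := by
  rw [Scheme.Pullback.range_fst, PicAmpleLiftLib.range_i0]

theorem dim_fiber_le {A : Type u} [CommRing A] [IsLocalRing A] {X : Scheme.{u}} (f : X ⟶ Spec (CommRingCat.of A))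
    (hdim : topologicalKrullDim ↥(pullback f (cp A)) ≤ 1) :
    topologicalKrullDim ↥(f.fiber (IsLocalRing.closedPoint A)) ≤ 1 := by
  haveI : IsClosedImmersion (cp A) := IsClosedImmersion.spec_of_surjective _ Ideal.Quotient.mk_surjective
  let i := pullback.fst f (cp A)
  let e₁ : ↥(pullback f (cp A)) ≃ₜ (f ⁻¹' {IsLocalRing.closedPoint A} : Set X) :=
    i.isEmbedding.toHomeomorph.trans (Homeomorph.setCongr (range_fst_cp f))
  exact (((f.fiberHomeo (IsLocalRing.closedPoint A)).trans e₁.symm).isClosedEmbedding.isInducing.topologicalKrullDim_le).trans hdim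

/-- Noetherian base, modulus prime to the residue characteristic. -/
theorem surjective_H2_noeth (A : Type u) [CommRing A] [IsNoetherianRing A] [HenselianLocalRing A]
    [IsSepClosed (IsLocalRing.ResidueField A)] {X : Scheme.{u}} (f : X ⟶ Spec (CommRingCat.of A)) [IsProper f]
    (hdim : topologicalKrullDim ↥(pullback f (cp A)) ≤ 1) (n : ℕ) [NeZero n] (hn : IsUnit (n : A)) :
    Function.Surjective (EtCore.Hpull (pullback.fst f (cp A)) (EtCoh.const X (ZMod n)) 2) := by
  haveI : IsClosedImmersion (cp A) := IsClosedImmersion.spec_of_surjective _ Ideal.Quotient.mk_surjective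
  obtain ⟨ζ, hζ⟩ := exists_root_cyclotomic A n hn
  refine surjective_H2_const X (pullback.fst f (cp A)) n (by rw [← map_natCast (toΓ f)]; exact hn.map _)
    (toΓ f ζ) (MuConstLib.aeval_map _ hζ) (fun ξ hξ => ?_)
    (surjective_HGmPull fun {L₀} hL =>
      PicAmpleLiftLib.exists_lift_closedFibre f (dim_fiber_le f hdim) _ (range_fst_cp f) hL)
  letI : Field (A ⧸ IsLocalRing.maximalIdeal A) := Ideal.Quotient.field _
  haveI := isSepClosed_quotient A
  refine eq_zero_brCoh (pullback.snd f (cp A)) hdim n ?_ ξ hξ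
  rw [← map_natCast (Ideal.Quotient.mk (IsLocalRing.maximalIdeal A))]
  exact (hn.map _).ne_zero

/-- A proper morphism of finite presentation over a strictly henselian ring comes from a Noetherian one. -/
theorem exists_noeth_model (A : Type u) [CommRing A] [HenselianLocalRing A]
    [IsSepClosed (IsLocalRing.ResidueField A)] {X : Scheme.{u}} (f : X ⟶ Spec (CommRingCat.of A)) [IsProper f]
    [LocallyOfFinitePresentation f] :
    ∃ (A₁ : Type u) (_ : CommRing A₁) (_ : IsNoetherianRing A₁) (_ : HenselianLocalRing A₁)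
      (_ : IsSepClosed (IsLocalRing.ResidueField A₁)) (_ : Algebra A₁ A) (_ : IsLocalHom (algebraMap A₁ A))
      (X₁ : Scheme.{u}) (f₁ : X₁ ⟶ Spec (CommRingCat.of A₁)) (a : X ⟶ X₁),
      IsProper f₁ ∧ IsPullback a f f₁ (spR A₁ A) := by
  obtain ⟨P, _, _, X₀, f₀, pX, hG, hp, hsq⟩ := FEtProper.exists_proper_model f
  haveI : IsNoetherianRing P := hG.1
  let p0 : Ideal P := (IsLocalRing.maximalIdeal A).comap (algebraMap P A)
  haveI : p0.IsPrime := Ideal.IsPrime.comap _
  let R := Localization.AtPrime p0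
  haveI : IsNoetherianRing R := IsLocalization.isNoetherianRing p0.primeCompl R inferInstance
  have hu : ∀ y : p0.primeCompl, IsUnit (algebraMap P A y) := fun y =>
    IsLocalRing.notMem_maximalIdeal.1 y.2
  let lR : R →+* A := IsLocalization.lift hu
  haveI : IsLocalHom lR := ⟨fun x hx => by
    obtain ⟨y, s, rfl⟩ := IsLocalization.exists_mk'_eq p0.primeCompl x
    refine (IsLocalization.AtPrime.isUnit_mk'_iff R p0 y s).2 fun hy => ?_
    have h1 : IsUnit (lR (IsLocalization.mk' R y s) * lR (algebraMap P R s)) :=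
      hx.mul (by rw [IsLocalization.lift_eq]; exact hu s)
    rw [← map_mul, IsLocalization.mk'_spec, IsLocalization.lift_eq] at h1
    exact (IsLocalRing.mem_maximalIdeal _).1 hy h1⟩
  let A₁ := HenselLib.SH R
  haveI hA₁ : Hensel.IsStrictHenselization R A₁ := inferInstance
  haveI : HenselianLocalRing A₁ := hA₁.henselian
  haveI hsc := hA₁.isSepClosure
  haveI : IsSepClosed (IsLocalRing.ResidueField A₁) := IsSepClosure.sep_closed (IsLocalRing.ResidueField R)
  haveI : IsNoetherianRing A₁ := (Groth.Agent.S0540.result R A₁).1 inferInstance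
  letI := (IsLocalRing.ResidueField.map lR).toAlgebra
  haveI : IsSepClosure (IsLocalRing.ResidueField R) (IsLocalRing.ResidueField A₁) := hsc
  haveI : Algebra.IsSeparable (IsLocalRing.ResidueField R) (IsLocalRing.ResidueField A₁) := IsSepClosure.separable
  let τ : IsLocalRing.ResidueField A₁ →ₐ[IsLocalRing.ResidueField R] IsLocalRing.ResidueField A := IsSepClosed.lift
  obtain ⟨g, ⟨hg, hgτ⟩, -⟩ := hA₁.universal A lR τ.toRingHom τ.comp_algebraMap
  haveI : IsLocalHom g := ⟨fun x hx => by
    refine (IsLocalRing.residue_ne_zero_iff_isUnit x).1 fun h0 => ?_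
    have := hgτ x
    rw [h0, map_zero] at this
    exact (IsLocalRing.residue_ne_zero_iff_isUnit _).2 hx this⟩
  letI : Algebra A₁ A := g.toAlgebra
  let φ : P →+* A₁ := (algebraMap R A₁).comp (algebraMap P R)
  letI : Algebra P A₁ := φ.toAlgebra
  have hφ : spR A₁ A ≫ spR P A₁ = spR P A := by
    rw [← Spec.map_comp, ← CommRingCat.ofHom_comp]
    congr 2
    show g.comp ((algebraMap R A₁).comp (algebraMap P R)) = _
    rw [← RingHom.comp_assoc, hg]
    exact IsLocalization.lift_comp hu
  refine ⟨A₁, inferInstance, inferInstance, inferInstance, inferInstance, g.toAlgebra, ‹IsLocalHom g›,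
    pullback f₀ (spR P A₁), pullback.snd _ _,
    pullback.lift pX (f ≫ spR A₁ A) (by rw [Category.assoc, hφ]; exact hsq.w), inferInstance, ?_⟩
  refine IsPullback.of_right ?_ (pullback.lift_snd _ _ _) (IsPullback.of_hasPullback f₀ (spR P A₁))
  rw [pullback.lift_fst, hφ]
  exact hsq

/-- Surjectivity on `H^2`, modulus prime to the residue characteristic. -/
theorem surjective_H2_unit (A : Type u) [CommRing A] [HenselianLocalRing A]
    [IsSepClosed (IsLocalRing.ResidueField A)] {X : Scheme.{u}} (f : X ⟶ Spec (CommRingCat.of A)) [IsProper f]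
    [LocallyOfFinitePresentation f] (hdim : topologicalKrullDim ↥(pullback f (cp A)) ≤ 1) (n : ℕ) [NeZero n]
    (hn : IsUnit (n : A)) :
    Function.Surjective (EtCore.Hpull (pullback.fst f (cp A)) (EtCoh.const X (ZMod n)) 2) := by
  obtain ⟨A₁, _, _, _, _, _, hloc, X₁, f₁, a, hp₁, hsq⟩ := exists_noeth_model A f
  haveI : IsClosedImmersion (cp A) := IsClosedImmersion.spec_of_surjective _ Ideal.Quotient.mk_surjective
  haveI : IsClosedImmersion (cp A₁) := IsClosedImmersion.spec_of_surjective _ Ideal.Quotient.mk_surjective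
  letI : Field (A ⧸ IsLocalRing.maximalIdeal A) := Ideal.Quotient.field _
  letI : Field (A₁ ⧸ IsLocalRing.maximalIdeal A₁) := Ideal.Quotient.field _
  haveI := isSepClosed_quotient A
  haveI := isSepClosed_quotient A₁
  have hle : IsLocalRing.maximalIdeal A₁ ≤ (IsLocalRing.maximalIdeal A).comap (algebraMap A₁ A) :=
    fun x hx => map_nonunit _ x hx
  let ψ : A₁ ⧸ IsLocalRing.maximalIdeal A₁ →+* A ⧸ IsLocalRing.maximalIdeal A :=
    Ideal.quotientMap (IsLocalRing.maximalIdeal A) (algebraMap A₁ A) hle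
  letI : Algebra (A₁ ⧸ IsLocalRing.maximalIdeal A₁) (A ⧸ IsLocalRing.maximalIdeal A) := ψ.toAlgebra
  let k₁ := A₁ ⧸ IsLocalRing.maximalIdeal A₁
  let k := A ⧸ IsLocalRing.maximalIdeal A
  have hψ : spR k₁ k ≫ cp A₁ = cp A ≫ spR A₁ A := by
    rw [← Spec.map_comp, ← Spec.map_comp]
    congr 1
  let i₁ := pullback.fst f₁ (cp A₁)
  let i := pullback.fst f (cp A)
  let a₀ : pullback f (cp A) ⟶ pullback f₁ (cp A₁) :=
    pullback.lift (i ≫ a) (pullback.snd _ _ ≫ spR k₁ k) (by
      rw [Category.assoc, hsq.w, Category.assoc, hψ, pullback.condition_assoc])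
  have h₀ : IsPullback a₀ (pullback.snd f (cp A)) (pullback.snd f₁ (cp A₁)) (spR k₁ k) := by
    refine IsPullback.of_right ?_ (pullback.lift_snd _ _ _) (IsPullback.of_hasPullback f₁ (cp A₁))
    rw [pullback.lift_fst, hψ]
    exact (IsPullback.of_hasPullback f (cp A)).paste_horiz hsq
  have hdim₁ : topologicalKrullDim ↥(pullback f₁ (cp A₁)) ≤ 1 := by
    rw [← FibDimLib.topologicalKrullDim_pullback_field k₁ k (pullback.snd f₁ (cp A₁))]
    exact (le_of_eq h₀.isoPullback.schemeIsoToHomeo.isHomeomorph.topologicalKrullDim_eq.symm).trans hdim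
  have hn₁ : IsUnit (n : A₁) := isUnit_of_map_unit (algebraMap A₁ A) _ (by rwa [map_natCast])
  refine surjective_of_iso_sheaf i (EtCore.pullConst a (ZMod n)) 2
    (surjective_transfer i₁ i a a₀ (pullback.lift_fst _ _ _) _ 2 (surjective_H2_noeth A₁ f₁ hdim₁ n hn₁)
      (bijective_sepClosed_isPullback hdim₁ h₀ _
        (CdCurveLib.isTorsion_pull_map i₁ (isTorsion_of_nsmul (NeZero.pos n) (nsmul_const X₁ n))) 2).2)

end EtPBCProperLib

end
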