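import Groth.Agent.EtPBCProperLib.CurveCore
import Groth.Agent.ChowLib.Embed
import Groth.Agent.PicPnLib.BaseChange
import Groth.Agent.VBP1Lib.Twist
import Groth.Agent.S7409
import Groth.Agent.S13502

/-!
# Proper morphisms are good
-/

set_option autoImplicit false
set_option linter.unusedSectionVars false
set_option linter.style.haveILetI false
set_option backward.isDefEq.respectTransparency false
set_option backward.isDefEq.respectTransparency.types false
set_option maxHeartbeats 1000000
set_option synthInstance.maxHeartbeats 400000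

universe u

open CategoryTheory CategoryTheory.Limits CategoryTheory.Abelian AlgebraicGeometry Opposite
open Groth.Agent Groth.Agent.EtShLib CohB1

attribute [local instance] EtSliceLib.pullExact

noncomputable section

namespace EtPBCProperLib

variable {X S : Scheme.{u}}

/-- Finite morphisms. -/
theorem good_of_isFinite (f : X ⟶ S) [IsFinite f] : Good f := by
  intro A _ _ _ X' a f' b hp J hJ n hn q hq
  haveI : IsFinite f' := MorphismProperty.of_isPullback hp inferInstance
  let k := A ⧸ IsLocalRing.maximalIdeal A
  letI : Field k := Ideal.Quotient.field _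
  haveI : IsSepClosed k := isSepClosed_quotient A
  haveI : HenselianLocalRing k := inferInstance
  haveI : IsSepClosed (IsLocalRing.ResidueField k) := SkySumLib.isSepClosed_residueField_self k
  let h₀ := pullback.snd f' (cp A)
  haveI : IsFinite h₀ := MorphismProperty.pullback_snd _ _ ‹IsFinite f'›
  let G := (EtCoh.pull (pullback.fst f' (cp A))).obj (nTor J n)
  haveI := Groth.Agent.EtShLib.subsingleton_H k ((EtCoh.push h₀).obj G) q hq
  exact (Equiv.ofBijective _ (Groth.Agent.S14451.result h₀ G
    (fun p hp => isZero_rightDerived_push_finite h₀ G p hp) q)).subsingleton_congr.1 inferInstance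

theorem isPullback_closedFibre_line {S' : Scheme.{u}} (A : Type u) [CommRing A] [IsLocalRing A] {X' : Scheme.{u}}
    {g' : X' ⟶ ProjSpaceOver 1 S'} {f' : X' ⟶ Spec (CommRingCat.of A)} {g : Spec (CommRingCat.of A) ⟶ S'}
    (hp : IsPullback g' f' (ProjSpaceOver.toBase 1 S') g) :
    IsPullback (pullback.fst f' (cp A) ≫ g' ≫ pullback.fst (ProjSpace.toSpec 1 (ULift.{u} ℤ)) (specULiftZIsTerminal.from S'))
      (pullback.snd f' (cp A)) (ProjSpace.toSpec 1 (ULift.{u} ℤ)) (specULiftZIsTerminal.from _) := by
  rw [← specULiftZIsTerminal.hom_ext (cp A ≫ g ≫ specULiftZIsTerminal.from S') (specULiftZIsTerminal.from _)]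
  exact (IsPullback.of_hasPullback f' (cp A)).paste_horiz (hp.paste_horiz (IsPullback.of_hasPullback _ _))

/-- The projective line. -/
theorem good_line (S : Scheme.{u}) : Good (ProjSpaceOver.toBase 1 S) := by
  intro A _ _ _ X' g' f' g hp
  haveI : IsNoetherianRing (ULift.{u} ℤ) := isNoetherianRing_of_ringEquiv ℤ ULift.ringEquiv.symm
  haveI : IsProper (ProjSpace.toSpec 1 (ULift.{u} ℤ)) := ChowLib.isProper_toSpec 1
  haveI : LocallyOfFinitePresentation (ProjSpace.toSpec 1 (ULift.{u} ℤ)) :=
    LocallyOfFinitePresentation.iff_locallyOfFiniteType.2 inferInstance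
  haveI : LocallyOfFinitePresentation (ProjSpaceOver.toBase 1 S) := MorphismProperty.pullback_snd _ _ ‹_›
  haveI : IsProper f' := MorphismProperty.of_isPullback hp inferInstance
  haveI : LocallyOfFinitePresentation f' := MorphismProperty.of_isPullback hp inferInstance
  refine van_curve A f' ?_
  letI : Field (A ⧸ IsLocalRing.maximalIdeal A) := Ideal.Quotient.field _
  obtain ⟨q, hq, -⟩ := PicPnLib.exists_map 1 (A ⧸ IsLocalRing.maximalIdeal A)
  let e := (isPullback_closedFibre_line A hp).isoIsPullback _ _ hq
  exact (le_of_eq (e.schemeIsoToHomeo.isHomeomorph.topologicalKrullDim_eq)).trans (VBP1Lib.dim_line _).le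

/-- The fibre product of copies of the line. -/
abbrev linePow (n : ℕ) (S : Scheme.{u}) : Scheme.{u} :=
  widePullback S (fun _ : Fin n => ProjSpaceOver 1 S) (fun _ => ProjSpaceOver.toBase 1 S)

abbrev linePowBase (n : ℕ) (S : Scheme.{u}) : linePow n S ⟶ S :=
  WidePullback.base (fun _ : Fin n => ProjSpaceOver.toBase 1 S)

theorem isPullback_linePow (n : ℕ) (S : Scheme.{u}) :
    ∃ tr : linePow (n + 1) S ⟶ linePow n S, tr ≫ linePowBase n S = linePowBase (n + 1) S ∧
      IsPullback (WidePullback.π (fun _ : Fin (n + 1) => ProjSpaceOver.toBase 1 S) (Fin.last n)) tr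
        (ProjSpaceOver.toBase 1 S) (linePowBase n S) := by
  let g := fun _ : Fin (n + 1) => ProjSpaceOver.toBase 1 S
  let g₀ := fun _ : Fin n => ProjSpaceOver.toBase 1 S
  let tr : linePow (n + 1) S ⟶ linePow n S :=
    WidePullback.lift (WidePullback.base g) (fun i => WidePullback.π g i.castSucc) (fun i => WidePullback.π_arrow g _)
  have hb : tr ≫ linePowBase n S = linePowBase (n + 1) S := WidePullback.lift_base _ _ _ _
  have hπ : ∀ i : Fin n, tr ≫ WidePullback.π g₀ i = WidePullback.π g i.castSucc := fun i => WidePullback.lift_π _ _ _ _ i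
  refine ⟨tr, hb, ⟨⟨(WidePullback.π_arrow g _).trans hb.symm⟩, ⟨PullbackCone.IsLimit.mk _
    (fun s => WidePullback.lift (arrows := g) (s.snd ≫ linePowBase n S)
      (Fin.lastCases s.fst fun i => s.snd ≫ WidePullback.π g₀ i) (fun j => by
        induction j using Fin.lastCases with
        | last => rw [Fin.lastCases_last]; exact s.condition
        | cast i => rw [Fin.lastCases_castSucc, Category.assoc, WidePullback.π_arrow]))
    (fun s => by rw [WidePullback.lift_π, Fin.lastCases_last])
    (fun s => by
      refine WidePullback.hom_ext _ _ _ (fun i => ?_) ?_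
      · rw [Category.assoc, hπ, WidePullback.lift_π, Fin.lastCases_castSucc]
      · rw [Category.assoc, hb, WidePullback.lift_base])
    (fun s m h₁ h₂ => by
      refine WidePullback.hom_ext _ _ _ (fun j => ?_) ?_
      · rw [WidePullback.lift_π]
        induction j using Fin.lastCases with
        | last => rw [Fin.lastCases_last]; exact h₁
        | cast i => rw [Fin.lastCases_castSucc, ← hπ, ← h₂, Category.assoc]
      · rw [WidePullback.lift_base, ← h₂, Category.assoc, hb])⟩⟩⟩

theorem good_linePow (n : ℕ) (S : Scheme.{u}) : IsProper (linePowBase n S) ∧ Good (linePowBase n S) := by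
  induction n with
  | zero =>
    let l : S ⟶ linePow 0 S := WidePullback.lift (𝟙 S) (fun i => i.elim0) (fun i => i.elim0)
    haveI : IsIso (linePowBase 0 S) := ⟨l, WidePullback.hom_ext _ _ _ (fun i => i.elim0)
      (by rw [Category.assoc, WidePullback.lift_base, Category.comp_id, Category.id_comp]), WidePullback.lift_base _ _ _ _⟩
    exact ⟨inferInstance, good_of_isFinite _⟩
  | succ n ih =>
    obtain ⟨tr, hb, hsq⟩ := isPullback_linePow n S
    haveI := ih.1
    haveI : IsProper tr := MorphismProperty.of_isPullback hsq inferInstance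
    rw [← hb]
    exact ⟨inferInstance, Good.comp ((good_line S).of_isPullback hsq) ih.2⟩

/-- Projective space. -/
theorem good_projSpace (n : ℕ) (S : Scheme.{u}) : Good (ProjSpaceOver.toBase n S) := by
  obtain ⟨φ, hφ, hs, h⟩ := Groth.Agent.S13502.result S n
  haveI := hφ
  haveI := hs
  refine Good.of_surjective (good_of_isFinite φ) ?_
  rw [h]
  exact (good_linePow n S).2

/-- Proper morphisms. -/
theorem good_of_isProper (f : X ⟶ S) [IsProper f] : Good f := by
  intro A _ _ _ X' a f' b hp
  haveI : IsProper f' := MorphismProperty.of_isPullback hp inferInstance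
  suffices h : Good f' from h A X' (𝟙 X') f' (𝟙 _) (IsPullback.of_id_fst)
  obtain ⟨n, X'', π, j, hj, w, hπ, hs⟩ := Groth.Agent.S7409.result f'
  haveI := hj
  haveI := hπ
  haveI := hs
  haveI : IsProper (j ≫ ProjSpaceOver.toBase n (Spec (CommRingCat.of A))) := by rw [w]; infer_instance
  haveI : IsProper j := IsProper.of_comp j (ProjSpaceOver.toBase n (Spec (CommRingCat.of A)))
  haveI : IsClosedImmersion j := IsClosedImmersion.of_isPreimmersion j j.isClosedMap.isClosed_range
  let t := ProjSpaceOver.toBase n (Spec (CommRingCat.of A))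
  let γ : X'' ⟶ pullback t f' := pullback.lift j π w
  haveI : IsClosedImmersion (γ ≫ pullback.fst t f') := by rw [pullback.lift_fst]; infer_instance
  haveI : IsClosedImmersion γ := IsClosedImmersion.of_comp γ (pullback.fst t f')
  have hgπ : Good (γ ≫ pullback.snd t f') :=
    Good.comp (good_of_isFinite γ) ((good_projSpace n _).of_isPullback (IsPullback.of_hasPullback t f'))
  rw [pullback.lift_snd] at hgπ
  refine Good.of_surjective hgπ ?_
  rw [← w]
  exact Good.comp (good_of_isFinite j) (good_projSpace n _)

/-- `Van` for proper morphisms. -/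
theorem van_of_isProper (A : Type u) [CommRing A] [HenselianLocalRing A] [IsSepClosed (IsLocalRing.ResidueField A)]
    (f : X ⟶ Spec (CommRingCat.of A)) [IsProper f] : Van A f :=
  good_of_isProper f A X (𝟙 X) f (𝟙 _) IsPullback.of_id_fst

/-- Proper base change over a strictly henselian ring. -/
theorem bijective_strict (A : Type u) [CommRing A] [HenselianLocalRing A] [IsSepClosed (IsLocalRing.ResidueField A)]
    (f : X ⟶ Spec (CommRingCat.of A)) [IsProper f] (F : EtCoh.Ab X) (hT : EtCoh.IsTorsion F) (q : ℕ) :
    Function.Bijective (EtCore.Hpull (pullback.fst f (cp A)) F q) :=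
  bijective_of_van A f (van_of_isProper A f) F hT q

end EtPBCProperLib

end
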