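import Groth.Agent.EtPBCProperLib.Leray
import Groth.Agent.EtPBCProperLib.Proper
import Groth.Agent.EtGenFibLib.Main
import Groth.Agent.LocAcycBCLib.Main
import Groth.Agent.QfHensFiniteLib.Basic

/-!
# Proper locally acyclic morphisms over strictly henselian rings: specialisation
-/

set_option autoImplicit false
set_option linter.all false
set_option backward.isDefEq.respectTransparency false
set_option backward.isDefEq.respectTransparency.types false
set_option synthInstance.maxHeartbeats 400000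
set_option maxHeartbeats 2000000

universe u

open CategoryTheory CategoryTheory.Limits CategoryTheory.Abelian AlgebraicGeometry Opposite
open Groth.Agent Groth.Agent.EtShLib EtRpushStalkLib DescSecLib LocAcycStalkLib ConstHLib

attribute [local instance] EtSliceLib.pullExact

noncomputable section

namespace EtPBCProperLib

theorem exists_selfSH (R : Type u) [CommRing R] [HenselianLocalRing R] [IsSepClosed (IsLocalRing.ResidueField R)]
    (z : Spec (CommRingCat.of R)) (hz : z = IsLocalRing.closedPoint R) :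
    ∃ (_ : Algebra ((Spec (CommRingCat.of R)).presheaf.stalk z) R)
      (_ : IsLocalHom (algebraMap ((Spec (CommRingCat.of R)).presheaf.stalk z) R))
      (_ : Hensel.IsStrictHenselization ((Spec (CommRingCat.of R)).presheaf.stalk z) R),
      Hens2.specOf (Spec (CommRingCat.of R)) z R = 𝟙 _ := by
  subst hz
  haveI := QfHensFiniteLib.isStrictHenselization_self R
  let e : (Spec (CommRingCat.of R)).presheaf.stalk (IsLocalRing.closedPoint R) ≅ CommRingCat.of R :=
    stalkClosedPointIso (CommRingCat.of R)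
  obtain ⟨a, l, s, ha⟩ := LocAcycBCLib.exists_sh_of_equiv e.commRingCatIsoToRingEquiv R
  refine ⟨a, l, s, ?_⟩
  have h2 : CommRingCat.ofHom (@algebraMap _ R _ _ a) = e.hom := CommRingCat.hom_ext ha
  show Spec.map (CommRingCat.ofHom (@algebraMap _ R _ _ a)) ≫
    (Spec (CommRingCat.of R)).fromSpecStalk (IsLocalRing.closedPoint R) = _
  rw [h2, ← Spec_stalkClosedPointIso (CommRingCat.of R), ← Spec.map_comp]
  exact (congrArg Spec.map e.inv_hom_id).trans (Spec.map_id _)

/-- Geometric points over a geometric point stay algebraic. -/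
theorem exists_geomPt_comp {Y : Scheme.{u}} (y : Y) (Ω : Type u) [Field Ω] [Algebra (Y.residueField y) Ω]
    [Algebra.IsAlgebraic (Y.residueField y) Ω] (p : Spec (CommRingCat.of Ω)) (Ω' : Type u) [Field Ω']
    [Algebra ((Spec (CommRingCat.of Ω)).residueField p) Ω'] [Algebra.IsAlgebraic ((Spec (CommRingCat.of Ω)).residueField p) Ω'] :
    ∃ _ : Algebra (Y.residueField y) Ω', Algebra.IsAlgebraic (Y.residueField y) Ω' ∧
      EtAcyc.geomPt (Spec (CommRingCat.of Ω)) p Ω' ≫ EtAcyc.geomPt Y y Ω = EtAcyc.geomPt Y y Ω' := by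
  let ρ := Spec.preimage ((Spec (CommRingCat.of Ω)).fromSpecResidueField p)
  have hρ : Spec.map ρ = (Spec (CommRingCat.of Ω)).fromSpecResidueField p := Spec.map_preimage _
  haveI : IsClosedImmersion ((Spec (CommRingCat.of Ω)).fromSpecResidueField p) :=
    IsClosedImmersion.of_isPreimmersion _ (by
      rw [Scheme.range_fromSpecResidueField]
      haveI : Subsingleton ↥(Spec (CommRingCat.of Ω)) := inferInstanceAs (Subsingleton (PrimeSpectrum Ω))
      exact isClosed_discrete _)
  have hint : ρ.hom.IsIntegral := IsIntegralHom.SpecMap_iff.1 (by rw [hρ]; infer_instance)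
  refine ⟨((algebraMap ((Spec (CommRingCat.of Ω)).residueField p) Ω').comp (ρ.hom.comp (algebraMap (Y.residueField y) Ω))).toAlgebra, ?_, ?_⟩
  · refine EtAcycFibLib.isAlgebraic_comp (ρ.hom.comp (algebraMap (Y.residueField y) Ω)) ?_
    letI := ρ.hom.toAlgebra
    haveI : Algebra.IsIntegral Ω ((Spec (CommRingCat.of Ω)).residueField p) := ⟨hint⟩
    letI : Algebra (Y.residueField y) ((Spec (CommRingCat.of Ω)).residueField p) :=
      (ρ.hom.comp (algebraMap (Y.residueField y) Ω)).toAlgebra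
    haveI : IsScalarTower (Y.residueField y) Ω ((Spec (CommRingCat.of Ω)).residueField p) :=
      IsScalarTower.of_algebraMap_eq fun _ => rfl
    exact Algebra.IsAlgebraic.trans (Y.residueField y) Ω ((Spec (CommRingCat.of Ω)).residueField p)
  · show (Spec.map _ ≫ _) ≫ Spec.map _ ≫ Y.fromSpecResidueField y = Spec.map _ ≫ Y.fromSpecResidueField y
    rw [← hρ, ← Spec.map_comp, ← Spec.map_comp_assoc]
    rfl

variable {R : Type u} [CommRing R] [HenselianLocalRing R] [IsSepClosed (IsLocalRing.ResidueField R)]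
  {X : Scheme.{u}} (f : X ⟶ Spec (CommRingCat.of R)) [QuasiCompact f] [QuasiSeparated f] {L : Set ℕ} {n : ℕ}
  (hL : ∃ ℓ ∈ L, ℓ.Prime) (hf : EtAcyc.IsLocAcyclicN f L n)

include hL hf in
/-- The stalks along the closed fibre of the unit and the higher direct images from a geometric fibre. -/
theorem stalks_closedFibre (F : EtCoh.Ab X) (hF : EtAcyc.IsLTorsion L F) (hlc : EtRest.IsLocallyConstant F)
    (y : Spec (CommRingCat.of R)) (Ω₀ : Type u) [Field Ω₀] [IsSepClosed Ω₀]
    [Algebra ((Spec (CommRingCat.of R)).residueField y) Ω₀]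
    [Algebra.IsAlgebraic ((Spec (CommRingCat.of R)).residueField y) Ω₀]
    {Ω : Type u} [Field Ω] [IsSepClosed Ω] (ξ : Spec (CommRingCat.of Ω) ⟶ X)
    (hξ : f.base (ξ.base default) = IsLocalRing.closedPoint R) :
    IsIso ((stk (A := AddCommGrpCat.{u + 1}) ξ).map
      ((EtCoh.pullPushAdj (pullback.fst f (EtAcyc.geomPt (Spec (CommRingCat.of R)) y Ω₀))).unit.app F)) ∧
    ∀ q : ℕ, 1 ≤ q → q ≤ n → IsZero ((stk (A := AddCommGrpCat.{u + 1}) ξ).obj
      ((EtCoh.Rpush (pullback.fst f (EtAcyc.geomPt (Spec (CommRingCat.of R)) y Ω₀)) q).obj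
        ((EtCoh.pull (pullback.fst f (EtAcyc.geomPt (Spec (CommRingCat.of R)) y Ω₀))).obj F))) := by
  let j := EtAcyc.geomPt (Spec (CommRingCat.of R)) y Ω₀
  let h := pullback.fst f j
  let x := ξ.base default
  obtain ⟨_, _, hS, hspec⟩ := exists_selfSH R (f.base x) hξ
  haveI := hS
  obtain ⟨RX, _, _, _, _, hX⟩ := Groth.Agent.S0537.result (X.presheaf.stalk x)
  obtain ⟨ψ, hl, hψ⟩ := EtBcQLib.exists_shHom f x R RX
  haveI := hl
  letI : Algebra R RX := ψ.toAlgebra
  haveI : IsLocalHom (algebraMap R RX) := hl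
  haveI : HenselianLocalRing RX := hX.henselian
  haveI : IsSepClosed (IsLocalRing.ResidueField RX) := hX.isSepClosure.sep_closed
  let hmS : Spec (CommRingCat.of RX) ⟶ Spec (CommRingCat.of R) := Spec.map (CommRingCat.ofHom (algebraMap R RX))
  let π := pullback.fst hmS j
  let m := pullback.snd hmS j
  let gX := Hens2.specOf X x RX
  have hw : hmS = gX ≫ f := by
    have h1 := EtBcQLib.specOf_comp f x R RX ψ hψ
    rw [hspec] at h1
    exact (Category.comp_id hmS).symm.trans h1
  have sqP : IsPullback m π j (gX ≫ f) := by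
    rw [← hw]
    exact (IsPullback.of_hasPullback hmS j).flip
  let b : pullback hmS j ⟶ pullback f j := pullback.lift (π ≫ gX) m (by rw [Category.assoc]; exact sqP.w.symm)
  have sq : IsPullback b π h gX :=
    IsPullback.of_right (by rw [show b ≫ pullback.snd f j = m from pullback.lift_snd _ _ _]; exact sqP)
      (pullback.lift_fst _ _ _) (IsPullback.of_hasPullback f j).flip
  haveI : QuasiCompact m := inferInstance
  haveI : QuasiSeparated m := inferInstance
  haveI : QuasiCompact j := inferInstance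
  haveI : QuasiSeparated j := inferInstance
  haveI : QuasiCompact h := MorphismProperty.pullback_fst (P := @QuasiCompact) f j inferInstance
  haveI : QuasiSeparated h := MorphismProperty.pullback_fst (P := @QuasiSeparated) f j inferInstance
  have hfib : EtAcyc.GeomFibresAcyclicN L n m := fun p Ω' _ _ _ _ => by
    obtain ⟨aΩ, halg, hpt⟩ := exists_geomPt_comp y Ω₀ p Ω'
    letI := aΩ
    haveI := halg
    have h0 := (Groth.Agent.S3471.result f L hL n).1 hf x R RX hψ y Ω'
    refine LocAcycPointLib.isAcyclicSchemeN_of_iso ?_ h0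
    refine eqToIso (by rw [hpt]) ≪≫
      (((IsPullback.of_hasPullback m (EtAcyc.geomPt _ p Ω')).flip.paste_vert
        (IsPullback.of_hasPullback hmS j).flip).flip.isoPullback).symm
  have hac : EtAcyc.IsAcyclicN m L n := EtGenFibLib.isAcyclicN_to_point m hL n hfib
  haveI : Nonempty ↥(pullback hmS j) := by
    obtain ⟨⟨p⟩, -, -⟩ := hfib default (AlgebraicClosure ((Spec (CommRingCat.of Ω₀)).residueField default))
    exact ⟨(pullback.fst m _).base p⟩
  let G := (EtCoh.pull gX).obj F
  have hG : EtRest.IsLocallyConstant G := (isLC_iff G).2 (((isLC_iff F).1 hlc).pull (f := gX))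
  obtain ⟨e⟩ := ConstHLib.exists_iso_const hG
  let M := (stk (A := AddCommGrpCat.{u + 1}) (closedPt RX)).obj G
  have hM : ∀ z : M, ∃ k, EtAcyc.PrimesIn L k ∧ k • z = 0 :=
    (isLTorsion_iff_torsionBy L G).1 (EtAcycLib.isLTorsion_pull_any gX hF) _ (closedPt RX)
  haveI : IsSepClosed (IsLocalRing.ResidueField Ω₀) := SkySumLib.isSepClosed_residueField_self Ω₀
  have hcomp := (EtAcycFibLib.compN_of_acyclicN hac) ((cS (Spec (CommRingCat.of Ω₀))).obj M) (EtGenFibLib.isLTorsion_cS M hM)
  have hB0 : Bij0 (pullback hmS j) M := by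
    refine ⟨ConstHLib.injective_map (X := pullback hmS j) M, fun α => ?_⟩
    let i : (EtCoh.pull m).obj ((cS (Spec (CommRingCat.of Ω₀))).obj M) ≅ (cS _).obj M :=
      (EtCoh.pull m).mapIso (Iso.refl _) ≪≫ (EtCore.pullConstIso m).app M
    obtain ⟨z, hz⟩ := (hcomp.1 0 (Nat.zero_le n)).2 (Ext.mk₀ (α ≫ i.inv))
    obtain ⟨β, rfl⟩ := (Ext.mk₀_bijective _ _).2 z
    obtain ⟨φ, rfl⟩ := EtGenFibLib.surjective_cS_map Ω₀ M β
    refine ⟨φ, (cancel_mono i.inv).1 ((Ext.mk₀_bijective _ _).1 ?_)⟩
    refine Eq.trans ?_ hz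
    refine (EtGenFibLib.Hpull_cS_map m (Iso.refl ((cS (Spec (CommRingCat.of Ω₀))).obj M)) φ).symm.trans ?_
    exact congrArg (EtCore.Hpull m _ 0) (congrArg Ext.mk₀ (Category.comp_id _))
  have hb := EtGenFibLib.bijective_Hpull_zero RX π e hB0
  obtain ⟨C⟩ := EtRpushStalkLib.exists_chart x RX
  obtain ⟨es⟩ := nonempty_stk_iso_of_eq (A := AddCommGrpCat.{u + 1}) (ξ := closedPt RX ≫ gX) (ξ' := ξ) (by
    show x = _
    rw [Scheme.Hom.comp_apply]
    refine ((congrArg gX.base ?_).trans (EtStrictAcycLib.specOf_closedPoint X x RX)).symm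
    exact SubmDescLib.closedPoint_map (IsLocalRing.residue RX) IsLocalRing.residue_surjective _)
  refine ⟨?_, fun q hq1 hq => ?_⟩
  · haveI := isIso_unit_stk h sq C F hb
    rw [← NatIso.naturality_1 es ((EtCoh.pullPushAdj h).unit.app F)]
    infer_instance
  · obtain ⟨e'⟩ := EtRpushStalkLib.nonempty_iso h sq C q
    let E : (EtCoh.pull b).obj ((EtCoh.pull h).obj F) ≅ (EtCoh.pull m).obj ((cS (Spec (CommRingCat.of Ω₀))).obj M) :=
      asIso ((DescSecLib.etSys.c b h (b ≫ h) rfl).app _) ≪≫ (asIso ((DescSecLib.etSys.c π gX (b ≫ h) sq.w.symm).app _)).symm ≪≫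
        ((EtCoh.pull π).mapIso e ≪≫ (EtCore.pullConstIso π).app M) ≪≫ ((EtCore.pullConstIso m).app M).symm
    obtain ⟨k, rfl⟩ : ∃ k, q = k + 1 := ⟨q - 1, by omega⟩
    haveI : Subsingleton (EtCoh.H _ ((EtCoh.pull m).obj ((cS (Spec (CommRingCat.of Ω₀))).obj M)) (k + 1)) :=
      ⟨fun a c => by
        obtain ⟨a', rfl⟩ := (hcomp.1 (k + 1) hq).2 a
        obtain ⟨c', rfl⟩ := (hcomp.1 (k + 1) hq).2 c
        rw [EtAcycFibLib.eq_zero_of_point _ k a', EtAcycFibLib.eq_zero_of_point _ k c']⟩
    refine IsZero.of_iso ?_ (es.symm.app _ ≪≫ e'.app _ ≪≫ (extFunctorObj _ (k + 1)).mapIso E)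
    exact AddCommGrpCat.isZero_of_subsingleton (AddCommGrpCat.of
      (EtCoh.H _ ((EtCoh.pull m).obj ((cS (Spec (CommRingCat.of Ω₀))).obj M)) (k + 1)))

theorem bijective_geomFibre {R : Type u} [CommRing R] [HenselianLocalRing R] [IsSepClosed (IsLocalRing.ResidueField R)]
    {X : Scheme.{u}} (f : X ⟶ Spec (CommRingCat.of R)) [IsProper f] {L : Set ℕ} {n : ℕ}
    (hf : EtAcyc.IsLocAcyclicN f L n) (F : EtCoh.Ab X) (hF : EtAcyc.IsLTorsion L F) (hlc : EtRest.IsLocallyConstant F)
    (y : Spec (CommRingCat.of R)) (Ω₀ : Type u) [Field Ω₀] [IsSepClosed Ω₀]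
    [Algebra ((Spec (CommRingCat.of R)).residueField y) Ω₀]
    [Algebra.IsAlgebraic ((Spec (CommRingCat.of R)).residueField y) Ω₀] :
    (∀ q, q ≤ n → Function.Bijective (EtCore.Hpull (pullback.fst f (EtAcyc.geomPt (Spec (CommRingCat.of R)) y Ω₀)) F q)) ∧
      Function.Injective (EtCore.Hpull (pullback.fst f (EtAcyc.geomPt (Spec (CommRingCat.of R)) y Ω₀)) F (n + 1)) := by
  let j := EtAcyc.geomPt (Spec (CommRingCat.of R)) y Ω₀
  let h := pullback.fst f j
  haveI := EtCore.pull_preservesFiniteColimits h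
  haveI : (EtCoh.pull h).Additive := (EtCoh.pullPushAdj h).left_adjoint_additive
  by_cases hL : ∃ ℓ ∈ L, ℓ.Prime
  swap
  · have h0 := EtBcBridgeLib.isZero_of_isLTorsion hL hF
    have h1 := (EtCoh.pull h).map_isZero h0
    exact ⟨fun q _ => ⟨fun a b _ => (EtBcBridgeLib.subsingleton_H_of_isZero h0 q).elim a b,
      fun b => ⟨0, (EtBcBridgeLib.subsingleton_H_of_isZero h1 q).elim _ _⟩⟩,
      fun a b _ => (EtBcBridgeLib.subsingleton_H_of_isZero h0 _).elim a b⟩
  haveI : QuasiCompact j := inferInstance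
  haveI : QuasiSeparated j := inferInstance
  haveI : QuasiCompact h := MorphismProperty.pullback_fst (P := @QuasiCompact) f j inferInstance
  haveI : QuasiSeparated h := MorphismProperty.pullback_fst (P := @QuasiSeparated) f j inferInstance
  haveI : CompactSpace ↥(pullback f j) := QuasiCompact.compactSpace_of_compactSpace (pullback.snd f j)
  haveI : QuasiSeparatedSpace ↥(pullback f j) := quasiSeparatedSpace_of_quasiSeparated (pullback.snd f j)
  have hT : EtCoh.IsTorsion F := isTorsion_of_torsionBy fun Ω _ _ ξ p => by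
    obtain ⟨m, hm, hp⟩ := (isLTorsion_iff_torsionBy L F).1 hF Ω ξ p
    exact ⟨m, hm.1, hp⟩
  let i := pullback.fst f (cp R)
  have hpt : ∀ {Ω : Type u} [Field Ω] (η : Spec (CommRingCat.of Ω) ⟶ pullback f (cp R)),
      f.base ((η ≫ i).base default) = IsLocalRing.closedPoint R := fun η => by
    have h1 : (η ≫ i).base default ∈ Set.range i.base := ⟨η.base default, rfl⟩
    rw [range_fst_cp] at h1
    exact h1
  have hi : ∀ G : EtCoh.Ab X, EtCoh.IsTorsion G → ∀ q, Function.Bijective (EtCore.Hpull i G q) :=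
    fun G hG q => bijective_strict R f G hG q
  have hK := CdCurveLib.isTorsion_pull_map h hT
  obtain ⟨hb, hinj⟩ := bijective_HofPush_range h i hi n ((EtCoh.pull h).obj F) hK fun s hs hsn => by
    refine isZero_of_geomPt_stalks _ fun x₀ => ?_
    let S := HenselLib.SH ((pullback f (cp R)).presheaf.stalk x₀)
    have hS : Hensel.IsStrictHenselization ((pullback f (cp R)).presheaf.stalk x₀) S := inferInstance
    haveI := hS.henselian
    haveI : IsSepClosed (IsLocalRing.ResidueField S) := hS.isSepClosure.sep_closed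
    refine ⟨S, inferInstance, inferInstance, inferInstance, inferInstance, inferInstance, ?_⟩
    let η := Hens2.geomPt (pullback f (cp R)) x₀ S
    haveI := AddCommGrpCat.subsingleton_of_isZero ((stalks_closedFibre f hL hf F hF hlc y Ω₀ (η ≫ i) (hpt η)).2 s hs hsn)
    exact ((stalkPull i η AddCommGrpCat.{u + 1}).app _).addCommGroupIsoToAddEquiv.toEquiv.subsingleton_congr.1 inferInstance
  let u₀ := (EtCoh.pullPushAdj h).unit.app F
  haveI : IsIso ((EtCoh.pull i).map u₀) := isIso_of_stalks _ fun Ω _ _ η => by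
    haveI := (stalks_closedFibre f hL hf F hF hlc y Ω₀ (η ≫ i) (hpt η)).1
    have hn := (stalkPull i η AddCommGrpCat.{u + 1}).hom.naturality u₀
    have h2 : IsIso ((stalkPull i η AddCommGrpCat.{u + 1}).hom.app F ≫ (EtCoh.pull i ⋙ stk (A := AddCommGrpCat.{u + 1}) η).map u₀) := by
      erw [← hn]; infer_instance
    have h3 : IsIso ((EtCoh.pull i ⋙ stk (A := AddCommGrpCat.{u + 1}) η).map u₀) :=
      IsIso.of_isIso_comp_left ((stalkPull i η AddCommGrpCat.{u + 1}).hom.app F) _
    exact h3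
  have hu : ∀ q, Function.Bijective fun x : EtCoh.H X F q =>
      (Ext.comp (x : Ext.{u + 1} _ _ q) (Ext.mk₀ u₀) (add_zero q) : EtCoh.H X ((EtCoh.push h).obj ((EtCoh.pull h).obj F)) q) := fun q => by
    have hb' := EtAcycLib.bijective_mk₀_iso_postcomp (Z := EtCoh.const (pullback f (cp R)) ℤ) (asIso ((EtCoh.pull i).map u₀)) q
    refine (Function.Bijective.of_comp_iff' (hi _ (isTorsion_push h hK) q) _).1 ?_
    refine cast (congrArg Function.Bijective (funext fun x => (EtAcycLib.Hpull_postcomp i u₀ q x).symm)) ?_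
    exact hb'.comp (hi F hT q)
  have he : ∀ q, (EtCore.Hpull h F q : _ → _) = EtLim.HofPush h ((EtCoh.pull h).obj F) q ∘ fun x : EtCoh.H X F q =>
      (Ext.comp (x : Ext.{u + 1} _ _ q) (Ext.mk₀ u₀) (add_zero q) : EtCoh.H X ((EtCoh.push h).obj ((EtCoh.pull h).obj F)) q) := fun q => funext fun x => by
    symm
    show Ext.comp (EtCore.Hpull h _ q (Ext.comp (x : Ext.{u + 1} _ _ q) (Ext.mk₀ u₀) (add_zero q))) _ (add_zero q) = _
    rw [EtAcycLib.Hpull_postcomp, Ext.comp_assoc_of_second_deg_zero, Ext.mk₀_comp_mk₀]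
    refine (congrArg (fun t => Ext.comp (EtCore.Hpull h F q x) (Ext.mk₀ t) (add_zero q))
      ((EtCoh.pullPushAdj h).left_triangle_components F)).trans ?_
    exact Ext.comp_mk₀_id _
  refine ⟨fun q hq => ?_, ?_⟩
  · rw [he q]; exact (hb q hq).comp (hu q)
  · rw [he (n + 1)]; exact hinj.comp (hu (n + 1)).1

end EtPBCProperLib

end
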