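import Groth.Agent.EtPBCProperLib.Proper
import Groth.Agent.EtGenFibLib.Main
import Groth.Agent.S14389

/-!
# Sheaves on a separably closed point
-/

set_option autoImplicit false
set_option linter.unusedSectionVars false
set_option linter.style.haveILetI false
set_option backward.isDefEq.respectTransparency false
set_option backward.isDefEq.respectTransparency.types false
set_option maxHeartbeats 1000000
set_option synthInstance.maxHeartbeats 400000

universe u

open CategoryTheory CategoryTheory.Limits CategoryTheory.Abelian AlgebraicGeometry Opposite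
open Groth.Agent Groth.Agent.EtShLib ConstHLib
open FEtProper (spR)

attribute [local instance] EtSliceLib.pullExact

noncomputable section

namespace EtPBCProperLib

/-- A lift of a geometric point through a section. -/
theorem exists_map_section {S : Scheme.{u}} {U : S.Etale} (σ : EtCoh.top S ⟶ U) {Ω : Type u} [Field Ω] [IsSepClosed Ω]
    (ξ : Spec (CommRingCat.of Ω) ⟶ S) (u : Fib ξ U) (h : σ.left.base (ξ.base default) = u.pt) :
    (Fib.mk ξ (Category.comp_id _) : Fib ξ (EtCoh.top S)).map σ = u := by
  haveI : AlgebraicGeometry.Etale σ.left := etale_left σ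
  have h1 : σ.left ≫ U.hom = 𝟙 S := MorphismProperty.Over.w σ
  haveI : IsSplitMono σ.left := IsSplitMono.mk' ⟨U.hom, h1⟩
  haveI : Mono σ.left := inferInstance
  haveI : IsOpenImmersion σ.left := IsOpenImmersion.of_flat_of_mono _
  let l := IsOpenImmersion.lift σ.left u.hom (by
    rintro _ ⟨a, rfl⟩
    exact ⟨ξ.base default, by rw [Subsingleton.elim a default]; exact h⟩)
  have hl : l ≫ σ.left = u.hom := IsOpenImmersion.lift_fac _ _ _
  have h2 : l = ξ :=
    calc l = l ≫ 𝟙 S := (Category.comp_id l).symm
      _ = l ≫ σ.left ≫ U.hom := congrArg (l ≫ ·) h1.symm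
      _ = (l ≫ σ.left) ≫ U.hom := (Category.assoc _ _ _).symm
      _ = u.hom ≫ U.hom := congrArg (· ≫ U.hom) hl
      _ = ξ := u.w
  refine Fib.ext ?_
  exact (congrArg (· ≫ σ.left) h2.symm).trans hl

variable (k : Type u) [Field k] [IsSepClosed k]

/-- Global sections on a separably closed point are the stalk at any geometric point. -/
theorem bijective_germ_point (G : EtCoh.Ab (Spec (CommRingCat.of k))) {Ω : Type u} [Field Ω] [IsSepClosed Ω]
    (ξ : Spec (CommRingCat.of Ω) ⟶ Spec (CommRingCat.of k)) :
    Function.Bijective (germ (A := AddCommGrpCat.{u + 1}) ξ G (EtCoh.top _) (Fib.mk ξ (Category.comp_id _))) := by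
  haveI : IsSepClosed (IsLocalRing.ResidueField k) := SkySumLib.isSepClosed_residueField_self k
  refine ⟨(injective_iff_map_eq_zero _).2 fun s hs => ?_, fun p => ?_⟩
  · obtain ⟨V, g, v, -, he⟩ := (germ_eq_iff (A := AddCommGrpCat.{u + 1}) ξ (EtCoh.top _) (Fib.mk ξ (Category.comp_id _)) s 0).1 (hs.trans (map_zero _).symm)
    obtain ⟨w, -⟩ := exists_fib (closedPt k) V v.pt (Subsingleton.elim (α := PrimeSpectrum k) _ _)
    refine (bijective_germ_top k G).1 ?_
    rw [map_zero, ← (show w.map g = topPt k from Fib.ext (by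
      show w.hom ≫ g.left = closedPt k
      rw [show g.left = V.hom from (Category.comp_id _).symm.trans (MorphismProperty.Over.w g)]
      exact w.w)), ← germ_res_apply, he, map_zero, map_zero]
  · obtain ⟨U, u, s, rfl⟩ := exists_germ ξ p
    obtain ⟨v, hv⟩ := exists_fib (closedPt k) U u.pt (Subsingleton.elim (α := PrimeSpectrum k) _ _)
    obtain ⟨σ, hσ⟩ := exists_section_fib k U v
    refine ⟨G.obj.map σ.op s, ?_⟩
    rw [germ_res_apply, exists_map_section σ ξ u]
    refine (?_ : _ = v.pt).trans hv
    refine Eq.trans ?_ (congrArg (fun t : Fib (closedPt k) U => t.pt) hσ)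
    exact congrArg σ.left.base (Subsingleton.elim (α := PrimeSpectrum k) _ _)

/-- A sheaf on a separably closed point is constant. -/
theorem exists_iso_const (G : EtCoh.Ab (Spec (CommRingCat.of k))) :
    ∃ M : AddCommGrpCat.{u + 1}, Nonempty (G ≅ (cS _).obj M) := by
  let X := Spec (CommRingCat.of k)
  let T := EtCoh.top X
  let η := 𝟙 (G.obj.obj (op T))
  let adj := constantSheafAdj X.smallEtaleTopology AddCommGrpCat.{u + 1} (EtCore.topIsTerminal X)
  let φ : (cS X).obj (G.obj.obj (op T)) ⟶ G := (adj.homEquiv _ G).symm η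
  have hφ : cstUnit X _ ≫ φ.hom.app (op T) = η := by
    have h1 : adj.homEquiv _ G φ = η := Equiv.apply_symm_apply _ _
    rw [← h1, Adjunction.homEquiv_unit, ConstHLib.unit_eq_cstUnit]
    rfl
  haveI : IsIso φ := isIso_of_stalks φ fun Ω _ _ ξ => by
    let w : Fib ξ T := Fib.mk ξ (Category.comp_id _)
    haveI := isCst_cstUnit (G.obj.obj (op T)) Ω ξ w
    haveI : IsIso (germ (A := AddCommGrpCat.{u + 1}) ξ G T w) :=
      (ConcreteCategory.isIso_iff_bijective _).2 (bijective_germ_point k G ξ)
    have h2 : (cstUnit X _ ≫ germ ξ _ T w) ≫ (stk ξ).map φ = η ≫ germ ξ G T w := by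
      rw [Category.assoc, germ_natural, ← Category.assoc, hφ]
    haveI : IsIso ((cstUnit X _ ≫ germ ξ _ T w) ≫ (stk ξ).map φ) := by rw [h2]; infer_instance
    exact IsIso.of_isIso_comp_left (cstUnit X _ ≫ germ ξ _ T w) _
  exact ⟨_, ⟨(asIso φ).symm⟩⟩

theorem bij0 (R : Type u) [CommRing R] [HenselianLocalRing R] [IsSepClosed (IsLocalRing.ResidueField R)]
    (M : AddCommGrpCat.{u + 1}) : Bij0 (X := Spec (CommRingCat.of R)) M := by
  let X := Spec (CommRingCat.of R)
  haveI : IsIso (cstUnit X M) := by
    haveI := isCst_cstUnit (X := X) M (IsLocalRing.ResidueField R) (closedPt R) (topPt R)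
    haveI : IsIso (germ (A := AddCommGrpCat.{u + 1}) (closedPt R) ((cS X).obj M) (EtCoh.top X) (topPt R)) :=
      (ConcreteCategory.isIso_iff_bijective _).2 (bijective_germ_top R _)
    exact IsIso.of_isIso_comp_right _ (germ (A := AddCommGrpCat.{u + 1}) (closedPt R) _ _ (topPt R))
  refine ⟨fun f g h => ?_, EtGenFibLib.surjective_cS_map R M⟩
  rw [← cancel_mono (cstUnit X M), ← cstUnit_naturality, ← cstUnit_naturality]
  exact congrArg (fun t => cstUnit X Zu ≫ t.hom.app (op (EtCoh.top X))) h

/-- Pullback between separably closed points in degree zero. -/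
theorem bijective_Hpull_point {K : Type u} [Field K] [IsSepClosed K] (g : Spec (CommRingCat.of K) ⟶ Spec (CommRingCat.of k))
    (G : EtCoh.Ab (Spec (CommRingCat.of k))) : Function.Bijective (EtCore.Hpull g G 0) := by
  haveI : IsSepClosed (IsLocalRing.ResidueField k) := SkySumLib.isSepClosed_residueField_self k
  haveI : IsSepClosed (IsLocalRing.ResidueField K) := SkySumLib.isSepClosed_residueField_self K
  obtain ⟨M, ⟨e⟩⟩ := exists_iso_const k G
  exact EtGenFibLib.bijective_Hpull_zero k g e (bij0 K M)

/-- The canonical map in degree zero is bijective. -/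
theorem bijective_HofPush_zero {X Y : Scheme.{u}} (f : X ⟶ Y) (F : EtCoh.Ab X) :
    Function.Bijective (EtLim.HofPush f F 0) := by
  haveI : PreservesLimitsOfSize.{0, 0} (EtCoh.push f) := (EtCoh.pullPushAdj f).rightAdjoint_preservesLimits
  haveI : PreservesFiniteLimits (EtCoh.push f) := PreservesLimitsOfSize.preservesFiniteLimits _
  haveI := EtCore.pull_preservesFiniteColimits f
  haveI : (EtCoh.pull f).Additive := (EtCoh.pullPushAdj f).left_adjoint_additive
  haveI : (EtCoh.push f).Additive := { }
  have hb := (EtAcycLib.extAdj'_range (EtCoh.pullPushAdj f) (EtCoh.const Y ℤ) 0 F fun q hq => by omega).1 0 le_rfl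
  have e : (EtLim.HofPush f F 0 : _ → _) =
      (fun x => (Ext.mk₀ (EtCore.pullConst f ℤ).symm.hom).comp x (zero_add 0)) ∘
        Groth.Agent.S14451.extAdj' (EtCoh.pullPushAdj f) (EtCoh.const Y ℤ) F 0 := by
    funext x
    exact Ext.comp_assoc _ _ _ (zero_add 0) (add_zero 0) (by omega)
  rw [e]
  exact (EtAcycLib.bijective_mk₀_iso_precomp _ 0).comp hb

/-- Extension of separably closed fields in degree zero. -/
theorem bijective_zero_field {K : Type u} [Field K] [IsSepClosed K] {X X' : Scheme.{u}} {a : X' ⟶ X}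
    {f : X ⟶ Spec (CommRingCat.of k)} [IsProper f] {f' : X' ⟶ Spec (CommRingCat.of K)}
    {g : Spec (CommRingCat.of K) ⟶ Spec (CommRingCat.of k)} (h : IsPullback a f' f g) (F : EtCoh.Ab X) :
    Function.Bijective (EtCore.Hpull a F 0) := by
  haveI := EtProperH0Lib.isIso_baseChange0 h F
  refine (Function.Bijective.of_comp_iff _ (bijective_HofPush_zero f F)).1 ?_
  have e : (EtCore.Hpull a F 0 ∘ EtLim.HofPush f F 0 : _ → _) = fun ζ => EtLim.HofPush f' ((EtCoh.pull a).obj F) 0
      (((EtCoh.HF (Spec (CommRingCat.of K)) 0).map (EtCoh.baseChange0 f g f' a h.w F)).hom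
        (EtCore.Hpull g ((EtCoh.push f).obj F) 0 ζ)) :=
    funext fun ζ => Groth.Agent.S14389.result f g f' a h.w F 0 ζ
  rw [e]
  exact (bijective_HofPush_zero f' _).comp
    ((((EtCoh.HF _ 0).mapIso (asIso (EtCoh.baseChange0 f g f' a h.w F))).addCommGroupIsoToAddEquiv.bijective).comp
      (bijective_Hpull_point k g _))

end EtPBCProperLib

end
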