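import Groth.Agent.EtPBCProperLib.Effacement
import Groth.Agent.EtH1PBCLib.Henselian

/-!
# Bijectivity of the restriction to the closed fibre from the vanishing on effacing sheaves
-/

set_option autoImplicit false
set_option linter.unusedSectionVars false
set_option linter.style.haveILetI false
set_option backward.isDefEq.respectTransparency false
set_option backward.isDefEq.respectTransparency.types false
set_option maxHeartbeats 1000000
set_option synthInstance.maxHeartbeats 400000

universe u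

open CategoryTheory CategoryTheory.Limits CategoryTheory.Abelian AlgebraicGeometry Opposite
open Groth.Agent Groth.Agent.EtShLib DescSecLib EtSliceLib EtAcycLib

attribute [local instance] EtSliceLib.pullExact CategoryTheory.Abelian.hasFiniteBiproducts

noncomputable section

namespace EtPBCProperLib

open EtH1PBC (i₀)

variable {X Y : Scheme.{u}}

/-- The closed point. -/
abbrev cp (A : Type u) [CommRing A] [IsLocalRing A] :
    Spec (CommRingCat.of (A ⧸ IsLocalRing.maximalIdeal A)) ⟶ Spec (CommRingCat.of A) :=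
  Spec.map (CommRingCat.ofHom (Ideal.Quotient.mk (IsLocalRing.maximalIdeal A)))

/-- The closed fibre kills the positive cohomology of the effacing sheaves. -/
def Van (A : Type u) [CommRing A] [IsLocalRing A] (f : X ⟶ Spec (CommRingCat.of A)) : Prop :=
  ∀ (J : EtCoh.Ab X), Injective J → ∀ n : ℕ, 0 < n → ∀ q : ℕ, 0 < q →
    Subsingleton (EtCoh.H (pullback f (cp A)) ((EtCoh.pull (pullback.fst f (cp A))).obj (nTor J n)) q)

/-- `Van` after every base change to a strictly henselian local ring. -/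
def Good {S : Scheme.{u}} (f : X ⟶ S) : Prop :=
  ∀ (A : Type u) [CommRing A] [HenselianLocalRing A] [IsSepClosed (IsLocalRing.ResidueField A)]
    (X' : Scheme.{u}) (g' : X' ⟶ X) (f' : X' ⟶ Spec (CommRingCat.of A)) (g : Spec (CommRingCat.of A) ⟶ S),
    IsPullback g' f' f g → Van A f'

theorem bijective_killed_of_efface (h : Y ⟶ X)
    (h0 : ∀ G : EtCoh.Ab X, Function.Bijective (EtCore.Hpull h G 0))
    (hV : ∀ (J : EtCoh.Ab X), Injective J → ∀ n : ℕ, 0 < n → ∀ q : ℕ, 0 < q →
      Subsingleton (EtCoh.H Y ((EtCoh.pull h).obj (nTor J n)) q)) :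
    ∀ (q : ℕ) (F : EtCoh.Ab X) (n : ℕ), 0 < n → n • 𝟙 F = 0 → Function.Bijective (EtCore.Hpull h F q) := by
  haveI := EtCore.pull_preservesFiniteColimits h
  haveI : (EtCoh.pull h).Additive := (EtCoh.pullPushAdj h).left_adjoint_additive
  intro q
  induction q with
  | zero => exact fun F _ _ _ => h0 F
  | succ q ih =>
    intro F n hn hF
    obtain ⟨J, hJ, m, hm⟩ := exists_mono_nTor hF
    haveI := hm
    let S : ShortComplex (EtCoh.Ab X) := ShortComplex.mk m (cokernel.π m) (cokernel.condition m)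
    have hS : S.ShortExact := { exact := ShortComplex.exact_of_g_is_cokernel _ (cokernelIsCokernel _) }
    have hI : ∀ j : ℕ, Function.Bijective (EtCore.Hpull h S.X₂ j) := fun j => by
      rcases Nat.eq_zero_or_pos j with rfl | hj
      · exact h0 _
      · haveI : Subsingleton (EtCoh.H Y ((EtCoh.pull h).obj S.X₂) j) := hV J hJ n hn j hj
        haveI : Subsingleton (EtCoh.H X S.X₂ j) := subsingleton_H_nTor J hn j hj
        exact ⟨fun a b _ => Subsingleton.elim a b, fun b => ⟨0, Subsingleton.elim _ _⟩⟩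
    have hC : n • 𝟙 S.X₃ = 0 := by
      rw [← cancel_epi (cokernel.π m), comp_zero, Preadditive.comp_nsmul, Category.comp_id,
        ← Category.id_comp (cokernel.π m), ← Preadditive.nsmul_comp, nsmul_nTor, zero_comp]
    have hq := ih S.X₃ n hn hC
    haveI : Subsingleton (EtCoh.H Y ((EtCoh.pull h).obj S.X₂) (q + 1)) := hV J hJ n hn _ (Nat.succ_pos q)
    haveI : Subsingleton (EtCoh.H X S.X₂ (q + 1)) := subsingleton_H_nTor J hn _ (Nat.succ_pos q)
    refine ⟨(injective_iff_map_eq_zero _).2 fun x hx => ?_, fun y => ?_⟩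
    · obtain ⟨c, rfl⟩ := Ext.covariant_sequence_exact₁ _ hS (n₁ := q + 1) x
        (Subsingleton.elim (α := EtCoh.H X S.X₂ (q + 1)) _ _) (n₀ := q) rfl
      obtain ⟨b', hb'⟩ := Ext.covariant_sequence_exact₃ _ (hS.map_of_exact (EtCoh.pull h))
        (EtCore.Hpull h S.X₃ q c) rfl ((Hpull_delta h hS c).symm.trans hx)
      obtain ⟨b, rfl⟩ := (hI q).2 b'
      have hc : b.comp (Ext.mk₀ S.g) (add_zero q) = c := hq.1 ((Hpull_postcomp h S.g q b).trans hb')
      rw [← hc, Ext.comp_assoc_of_second_deg_zero, ShortComplex.ShortExact.comp_extClass, Ext.comp_zero]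
    · obtain ⟨c', rfl⟩ := Ext.covariant_sequence_exact₁ _ (hS.map_of_exact (EtCoh.pull h)) (n₁ := q + 1) y
        (Subsingleton.elim (α := EtCoh.H Y ((EtCoh.pull h).obj S.X₂) (q + 1)) _ _) (n₀ := q) rfl
      obtain ⟨c, rfl⟩ := hq.2 c'
      exact ⟨c.comp hS.extClass rfl, Hpull_delta h hS c⟩

/-- From sheaves killed by an integer to torsion sheaves. -/
theorem bijective_of_killed (h : Y ⟶ X) [CompactSpace X] [QuasiSeparatedSpace X] [CompactSpace Y]
    [QuasiSeparatedSpace Y]
    (H : ∀ (q : ℕ) (G : EtCoh.Ab X) (n : ℕ), 0 < n → n • 𝟙 G = 0 → Function.Bijective (EtCore.Hpull h G q))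
    (F : EtCoh.Ab X) (hT : EtCoh.IsTorsion F) (q : ℕ) : Function.Bijective (EtCore.Hpull h F q) := by
  haveI : (EtCoh.pull h).IsLeftAdjoint := (EtCoh.pullPushAdj h).isLeftAdjoint
  haveI : (EtCoh.pull h).Additive := { }
  haveI := isFiltered_consOver F
  obtain ⟨hc⟩ := nonempty_isColimit_consCocone F (torsionBy_of_isTorsion hT)
  haveI := CovDevLib.preservesColimits_H (S := X) q (ConsOver F)
  haveI := CovDevLib.preservesColimits_H (S := Y) q (ConsOver F)
  let EX := Abelian.extFunctorObj.{u + 1} (EtCoh.const X ℤ) q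
  let EY := Abelian.extFunctorObj.{u + 1} (EtCoh.const Y ℤ) q
  have hb : ∀ p : ConsOver F, Function.Bijective (EtCore.Hpull h ((consDiagram F).obj p) q) := fun p => by
    obtain ⟨N, hN, hNG⟩ := ConsEffaceLib.exists_nsmul_eq_zero (PresOver.isCons (F := F) p)
    exact H q _ N hN hNG
  refine ⟨(injective_iff_map_eq_zero _).2 fun x hx => ?_, fun y => ?_⟩
  · obtain ⟨p, xp, hxp⟩ := CovDevLib.exists_rep_of_colimit (𝟭 (EtCoh.Ab X)) EX hc x
    have hxp' : Ext.comp (xp : Ext.{u + 1} _ _ q) (Ext.mk₀ ((consCocone F).ι.app p)) (add_zero q) = x := hxp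
    obtain ⟨r, a, hr⟩ := CovDevLib.exists_stage_eq_zero (EtCoh.pull h) EY hc (EtCore.Hpull h ((consDiagram F).obj p) q xp) (by
      show (EtCore.Hpull h ((consDiagram F).obj p) q xp).comp (Ext.mk₀ ((EtCoh.pull h).map ((consCocone F).ι.app p))) (add_zero q) = 0
      rw [← Hpull_postcomp]
      exact (congrArg _ hxp').trans hx)
    have h0 : Ext.comp (xp : Ext.{u + 1} _ _ q) (Ext.mk₀ ((consDiagram F).map a)) (add_zero q) = 0 := (hb r).1 (by
      rw [Hpull_postcomp, map_zero]
      exact hr)
    rw [← hxp', ← (consCocone F).w a, ← Ext.mk₀_comp_mk₀, ← Ext.comp_assoc_of_second_deg_zero, h0, Ext.zero_comp]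
  · obtain ⟨p, yp, hyp⟩ := CovDevLib.exists_rep_of_colimit (EtCoh.pull h) EY hc y
    obtain ⟨x, hx⟩ := (hb p).2 yp
    exact ⟨x.comp (Ext.mk₀ ((consCocone F).ι.app p)) (add_zero q), by rw [Hpull_postcomp, hx]; exact hyp⟩

/-- Bijectivity for torsion sheaves from `Van`. -/
theorem bijective_of_van (A : Type u) [CommRing A] [HenselianLocalRing A] {X : Scheme.{u}}
    (f : X ⟶ Spec (CommRingCat.of A)) [IsProper f] (hV : Van A f) (F : EtCoh.Ab X) (hT : EtCoh.IsTorsion F)
    (q : ℕ) : Function.Bijective (EtCore.Hpull (pullback.fst f (cp A)) F q) := by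
  haveI : CompactSpace X := QuasiCompact.compactSpace_of_compactSpace f
  haveI : QuasiSeparatedSpace X := quasiSeparatedSpace_of_quasiSeparated f
  haveI : CompactSpace ↥(pullback f (cp A)) := QuasiCompact.compactSpace_of_compactSpace (pullback.snd f (cp A))
  haveI : QuasiSeparatedSpace ↥(pullback f (cp A)) :=
    quasiSeparatedSpace_of_quasiSeparated (pullback.snd f (cp A))
  exact bijective_of_killed _ (bijective_killed_of_efface _ (EtH1PBC.bijective_Hpull_zero A f) hV) F hT q

end EtPBCProperLib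

end
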