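import Groth.Agent.EtPBCProperLib.Surj2
import Groth.Agent.CovDevLib.Devissage
import Groth.Agent.EtAcycFibLib.Acyclic
import Groth.Agent.S0641
import Groth.Agent.AlgSpRegLib.DimMaps

/-!
# Proper curves over strictly henselian rings
-/

set_option autoImplicit false
set_option linter.unusedSectionVars false
set_option linter.style.haveILetI false
set_option backward.isDefEq.respectTransparency false
set_option backward.isDefEq.respectTransparency.types false
set_option maxHeartbeats 1000000
set_option synthInstance.maxHeartbeats 400000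

universe u

open CategoryTheory CategoryTheory.Limits CategoryTheory.Abelian AlgebraicGeometry Opposite
open Groth.Agent Groth.Agent.EtShLib Groth.Agent.EtCompLib DescSecLib EtSliceLib EtAcycLib

noncomputable section

namespace EtPBCProperLib

section Devissage

open CovDevLib hiding CovHyp range_torsion cls_range injC_succ surC_of_injC injC_zero exists_embed_good

variable {X Y : Scheme.{u}} (h : Y ⟶ X)

/-- The hypothesis on constant sheaves on finite covers of finite presentation. -/
def CovHyp (ok : ℕ → Prop) (n : ℕ) : Prop :=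
  ∀ (X' : Scheme.{u}) (p : X' ⟶ X), IsFinite p → LocallyOfFinitePresentation p → ∀ q, ok q →
    (∃ r e : ℕ, r.Prime ∧ q = r ^ e) →
      Function.Injective (EtCore.Hpull (pullback.fst p h) (EtCoh.const X' (ZMod q)) 0) ∧
        ∀ i ≤ n, Function.Surjective (EtCore.Hpull (pullback.fst p h) (EtCoh.const X' (ZMod q)) i)

variable {h} {ok : ℕ → Prop} {n : ℕ} [CompactSpace X] [QuasiSeparatedSpace X]

variable (hok : Moduli ok) (H : CovHyp h ok n)

include hok H in
theorem exists_embed_good {F : EtCoh.Ab X} (hF : Cls ok F) :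
    ∃ (E : EtCoh.Ab X) (u : F ⟶ E), Mono u ∧ Cls ok E ∧ Function.Injective (EtCore.Hpull h E 0) ∧
      ∀ i ≤ n, Function.Surjective (EtCore.Hpull h E i) := by
  obtain ⟨k, Z, f, hfin, hfp, q, hq, hpp, ι, hι⟩ := exists_embed_cyclic hok hF
  haveI := hfin; haveI := hfp
  refine ⟨_, ι, hι, cls_biproduct hok _ fun j => cls_push_const hok (f j) (hq j),
    injective_biproduct _ 0 fun j =>
      injective_Hpull_push (IsPullback.of_hasPullback (f j) h) _ 0 (H (Z j) (f j) (hfin j) (hfp j) (q j) (hq j) (hpp j)).1,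
    fun i hi => surjective_biproduct _ i fun j =>
      surjective_Hpull_push (IsPullback.of_hasPullback (f j) h) _ i ((H (Z j) (f j) (hfin j) (hfp j) (q j) (hq j) (hpp j)).2 i hi)⟩

include hok H in
theorem injC_zero : InjC h ok 0 := fun F hF => by
  refine (injective_iff_map_eq_zero _).2 fun x hx => ?_
  obtain ⟨E, u, hu, -, hinj, -⟩ := exists_embed_good hok H hF
  haveI := hu
  refine eq_zero_of_mono_H0 u x (hinj ?_)
  rw [Hpull_postcomp, hx, Ext.zero_comp, map_zero]

include hok H in
theorem surC_of_injC {i : ℕ} (hi : i ≤ n) (hI : InjC h ok i) (hprev : ∀ j, j + 1 = i → SurC h ok j) :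
    SurC h ok i := fun F hF y => by
  obtain ⟨E, u, hu, hE, -, hsur⟩ := exists_embed_good hok H hF
  haveI := hu
  haveI : (EtCoh.pull h).IsLeftAdjoint := (EtCoh.pullPushAdj h).isLeftAdjoint
  let S := ShortComplex.mk u (cokernel.π u) (cokernel.condition u)
  have hS : S.ShortExact := { exact := ShortComplex.exact_of_g_is_cokernel _ (cokernelIsCokernel _) }
  obtain ⟨g, hg⟩ := hsur i hi (y.comp (Ext.mk₀ ((EtCoh.pull h).map u)) (add_zero i))
  have hgq : g.comp (Ext.mk₀ (cokernel.π u)) (add_zero i) = 0 := hI _ (cls_cokernel u hF hE) (by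
    rw [Hpull_postcomp, hg, Ext.comp_assoc_of_second_deg_zero, Ext.mk₀_comp_mk₀, ← Functor.map_comp,
      cokernel.condition, Functor.map_zero, Ext.mk₀_zero, Ext.comp_zero, map_zero])
  obtain ⟨f, hf⟩ := Ext.covariant_sequence_exact₂ _ hS g hgq
  have hd : (y - EtCore.Hpull h F i f).comp (Ext.mk₀ ((EtCoh.pull h).map u)) (add_zero i) = 0 := by
    refine ((Ext.mk₀ ((EtCoh.pull h).map u)).postcomp (EtCoh.const Y ℤ) (add_zero i)).map_sub _ _ |>.trans ?_
    show y.comp (Ext.mk₀ ((EtCoh.pull h).map u)) (add_zero i) -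
      (EtCore.Hpull h F i f).comp (Ext.mk₀ ((EtCoh.pull h).map u)) (add_zero i) = 0
    rw [← Hpull_postcomp, sub_eq_zero]
    exact hg.symm.trans (congrArg _ hf.symm)
  rcases i with _ | j
  · haveI : Mono ((EtCoh.pull h).map u) := inferInstance
    exact ⟨f, (sub_eq_zero.1 (eq_zero_of_mono_H0 _ _ hd)).symm⟩
  · obtain ⟨c', hc'⟩ := Ext.covariant_sequence_exact₁ _ (hS.map_of_exact (EtCoh.pull h)) (n₀ := j)
      (y - EtCore.Hpull h F (j + 1) f) hd rfl
    obtain ⟨c, rfl⟩ := hprev j rfl _ (cls_cokernel u hF hE) c'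
    refine ⟨f + c.comp hS.extClass rfl, ?_⟩
    have hδ := (Hpull_delta h hS c).trans hc'
    exact (map_add _ _ _).trans ((congrArg (_ + ·) hδ).trans (add_sub_cancel _ _))

include hok in
theorem injC_succ {i : ℕ} (hI : InjC h ok i) (hS' : SurC h ok i) : InjC h ok (i + 1) := fun F hF => by
  refine (injective_iff_map_eq_zero _).2 fun x hx => ?_
  obtain ⟨hFc, d, hd, hdF⟩ := hF
  obtain ⟨G, u, hG, hu, hxu⟩ := ConsEffaceLib.exists_efface hFc i x
  haveI := hu
  obtain ⟨K, ι, r, -, hK, hin, -⟩ := exists_part hok hG hd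
  have hfac := hin F u (nsmul_hom_left hdF u)
  haveI : Mono (u ≫ r) := mono_of_mono_fac hfac
  haveI : (EtCoh.pull h).IsLeftAdjoint := (EtCoh.pullPushAdj h).isLeftAdjoint
  have hxr : x.comp (Ext.mk₀ (u ≫ r)) (add_zero (i + 1)) = 0 := by
    rw [← Ext.mk₀_comp_mk₀, ← Ext.comp_assoc_of_second_deg_zero, hxu, Ext.zero_comp]
  let S := ShortComplex.mk (u ≫ r) (cokernel.π (u ≫ r)) (cokernel.condition _)
  have hS : S.ShortExact := { exact := ShortComplex.exact_of_g_is_cokernel _ (cokernelIsCokernel _) }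
  obtain ⟨c, rfl⟩ := Ext.covariant_sequence_exact₁ _ hS x hxr (n₀ := i) rfl
  obtain ⟨g', hg'⟩ := Ext.covariant_sequence_exact₃ _ (hS.map_of_exact (EtCoh.pull h))
    (EtCore.Hpull h S.X₃ i c) rfl ((Hpull_delta h hS c).symm.trans hx)
  obtain ⟨g, rfl⟩ := hS' K hK g'
  have hc : g.comp (Ext.mk₀ S.g) (add_zero i) = c :=
    hI _ (cls_cokernel (u ≫ r) ⟨hFc, d, hd, hdF⟩ hK) ((Hpull_postcomp h S.g i g).trans hg')
  rw [← hc, Ext.comp_assoc_of_second_deg_zero, ShortComplex.ShortExact.comp_extClass, Ext.comp_zero]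

include hok H in
theorem cls_range : ∀ i, (i ≤ n + 1 → InjC h ok i) ∧ (i ≤ n → SurC h ok i)
  | 0 => ⟨fun _ => injC_zero hok H, fun hi => surC_of_injC hok H hi (injC_zero hok H) (fun j hj => absurd hj (by omega))⟩
  | i + 1 => by
    have ih := cls_range i
    have hI : i + 1 ≤ n + 1 → InjC h ok (i + 1) := fun hi =>
      injC_succ hok (ih.1 (by omega)) (ih.2 (by omega))
    exact ⟨hI, fun hi => surC_of_injC hok H hi (hI (by omega)) fun j hj => by
      obtain rfl : j = i := by omega
      exact ih.2 (by omega)⟩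

variable [CompactSpace Y] [QuasiSeparatedSpace Y]

include hok H in
theorem range_torsion (F : EtCoh.Ab X) (hT : TorsionBy (fun m => 0 < m) F)
    (hmono : ∀ m : ℕ, (∀ d, ok d → d.Coprime m) → Mono (m • 𝟙 F)) :
    (∀ i ≤ n, Function.Bijective (EtCore.Hpull h F i)) ∧ Function.Injective (EtCore.Hpull h F (n + 1)) := by
  haveI : (EtCoh.pull h).IsLeftAdjoint := (EtCoh.pullPushAdj h).isLeftAdjoint
  haveI : (EtCoh.pull h).Additive := { }
  haveI := isFiltered_consOver F
  obtain ⟨hc⟩ := nonempty_isColimit_consCocone F hT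
  have hkill : ∀ {G : EtCoh.Ab X}, IsCons (A := AddCommGrpCat.{u + 1}) FinP G → ∀ g : G ⟶ F,
      ∃ e, ok e ∧ e • g = 0 := by
    intro G hG g
    obtain ⟨N, hN, hNG⟩ := ConsEffaceLib.exists_nsmul_eq_zero hG
    obtain ⟨a, m, ha, hdvd, hcop⟩ := hok.split N hN
    haveI := hmono m hcop
    refine ⟨a, ha, (cancel_mono (m • 𝟙 F)).1 ?_⟩
    rw [zero_comp, Preadditive.comp_nsmul, Category.comp_id, smul_smul, mul_comm m a]
    exact nsmul_eq_zero_of_dvd (nsmul_hom_left hNG g) hdvd
  have hfac : ∀ {G : EtCoh.Ab X}, IsCons (A := AddCommGrpCat.{u + 1}) FinP G → ∀ g : G ⟶ F,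
      ∃ (K : EtCoh.Ab X) (r : G ⟶ K) (g' : K ⟶ F), Cls ok K ∧ r ≫ g' = g := by
    intro G hG g
    obtain ⟨K, ι, r, -, hK, -, hout⟩ := exists_part hok hG hok.one
    obtain ⟨e, he, heg⟩ := hkill hG g
    exact ⟨K, r, ι ≫ g, hK, hout F g e he heg⟩
  have inj : ∀ i ≤ n + 1, Function.Injective (EtCore.Hpull h F i) := by
    intro i hi
    refine (injective_iff_map_eq_zero _).2 fun x hx => ?_
    haveI := preservesColimits_H (S := X) i (ConsOver F)
    haveI := preservesColimits_H (S := Y) i (ConsOver F)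
    let EX := Abelian.extFunctorObj.{u + 1} (EtCoh.const X ℤ) i
    let EY := Abelian.extFunctorObj.{u + 1} (EtCoh.const Y ℤ) i
    obtain ⟨p, xp, hxp⟩ := Concrete.isColimit_exists_rep _ (isColimitOfPreserves EX hc) x
    have hxp' : xp.comp (Ext.mk₀ ((consCocone F).ι.app p)) (add_zero i) = x := hxp
    obtain ⟨r, a, hab⟩ := exists_stage_eq_zero (EtCoh.pull h) EY hc (EtCore.Hpull h _ i xp) (by
      show (EtCore.Hpull h _ i xp).comp (Ext.mk₀ _) (add_zero i) = 0
      rw [← Hpull_postcomp, hxp']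
      exact hx)
    obtain ⟨K, t, g', hK, hg'⟩ := hfac (PresOver.isCons (F := F) r) ((consCocone F).ι.app r)
    have hz : EtCore.Hpull h _ i (xp.comp (Ext.mk₀ ((consDiagram F).map a)) (add_zero i)) = 0 := by
      rw [Hpull_postcomp]
      exact hab
    have hz' : (xp.comp (Ext.mk₀ ((consDiagram F).map a ≫ t)) (add_zero i)) = 0 := (cls_range hok H i).1 hi K hK (by
      rw [← Ext.mk₀_comp_mk₀, ← Ext.comp_assoc_of_second_deg_zero, Hpull_postcomp, hz, Ext.zero_comp, map_zero])
    rw [← hxp', ← (consCocone F).w a, ← hg', ← Category.assoc, ← Ext.mk₀_comp_mk₀,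
      ← Ext.comp_assoc_of_second_deg_zero, hz', Ext.zero_comp]
  refine ⟨fun i hi => ⟨inj i (by omega), fun y => ?_⟩, inj (n + 1) le_rfl⟩
  haveI := preservesColimits_H (S := Y) i (ConsOver F)
  obtain ⟨p, yp, hyp⟩ := exists_rep_of_colimit (EtCoh.pull h) (Abelian.extFunctorObj.{u + 1} (EtCoh.const Y ℤ) i) hc y
  have hyp' : yp.comp (Ext.mk₀ ((EtCoh.pull h).map ((consCocone F).ι.app p))) (add_zero i) = y := hyp
  obtain ⟨K, t, g', hK, hg'⟩ := hfac (PresOver.isCons (F := F) p) ((consCocone F).ι.app p)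
  obtain ⟨x, hx⟩ := (cls_range hok H i).2 hi K hK (yp.comp (Ext.mk₀ ((EtCoh.pull h).map t)) (add_zero i))
  refine ⟨x.comp (Ext.mk₀ g') (add_zero i), ?_⟩
  rw [Hpull_postcomp, hx, Ext.comp_assoc_of_second_deg_zero, Ext.mk₀_comp_mk₀, ← Functor.map_comp, hg']
  exact hyp'

end Devissage

attribute [local instance] EtSliceLib.pullExact

open EtH1PBC (i₀)

theorem surjective_comp {A B C : Scheme.{u}} (a : A ⟶ B) (b : B ⟶ C) (c : A ⟶ C) (w : a ≫ b = c)
    (G : EtCoh.Ab C) (n : ℕ) (ha : Function.Surjective (EtCore.Hpull a ((EtCoh.pull b).obj G) n))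
    (hb : Function.Surjective (EtCore.Hpull b G n)) : Function.Surjective (EtCore.Hpull c G n) := by
  have h1 : Function.Surjective (EtCore.HpullVia a b c w G n) :=
    ((((EtCoh.HF A n).mapIso (((EtCore.pullComp a b).symm ≪≫ EtCore.pullCongr w).app G)).addCommGroupIsoToAddEquiv).surjective).comp ha
  have e : (EtCore.Hpull c G n : EtCoh.H C G n → _) = EtCore.HpullVia a b c w G n ∘ EtCore.Hpull b G n :=
    funext fun x => (EtExtLib.via_Hpull a b c w G n x).symm
  rw [e]
  exact h1.comp hb

/-- Surjectivity for constant coefficients of prime power order. -/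
theorem surjective_const (A : Type u) [CommRing A] [HenselianLocalRing A]
    [IsSepClosed (IsLocalRing.ResidueField A)] {X : Scheme.{u}} (f : X ⟶ Spec (CommRingCat.of A)) [IsProper f]
    [LocallyOfFinitePresentation f] (hdim : topologicalKrullDim ↥(pullback f (cp A)) ≤ 1) (r e : ℕ) (hr : r.Prime)
    (i : ℕ) : Function.Surjective (EtCore.Hpull (pullback.fst f (cp A)) (EtCoh.const X (ZMod (r ^ e))) i) := by
  haveI : NeZero (r ^ e) := ⟨pow_ne_zero _ hr.ne_zero⟩
  letI : Field (A ⧸ IsLocalRing.maximalIdeal A) := Ideal.Quotient.field _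
  haveI := isSepClosed_quotient A
  haveI : IsClosedImmersion (cp A) := IsClosedImmersion.spec_of_surjective _ Ideal.Quotient.mk_surjective
  have hT := CdCurveLib.isTorsion_pull_map (pullback.fst f (cp A))
    (isTorsion_of_nsmul (NeZero.pos (r ^ e)) (nsmul_const X (r ^ e)))
  match i with
  | 0 => exact (EtH1PBC.bijective_Hpull_zero A f _).2
  | 1 => exact (Groth.Agent.S0641.result A X f (ZMod (r ^ e))).2
  | 2 =>
    by_cases hu : IsUnit (r : A)
    · exact surjective_H2_unit A f hdim (r ^ e) (by rw [Nat.cast_pow]; exact hu.pow e)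
    · have h0 : (r : A ⧸ IsLocalRing.maximalIdeal A) = 0 := by
        rw [← map_natCast (Ideal.Quotient.mk (IsLocalRing.maximalIdeal A)), Ideal.Quotient.eq_zero_iff_mem]
        exact (IsLocalRing.mem_maximalIdeal _).2 hu
      haveI : Fact r.Prime := ⟨hr⟩
      haveI : CharP (A ⧸ IsLocalRing.maximalIdeal A) r := (CharP.charP_iff_prime_eq_zero hr).2 h0
      haveI h2 : Subsingleton (EtCoh.H (pullback f (cp A)) (EtCoh.const (pullback f (cp A)) (ZMod (r ^ e))) 2) :=
        EtAcycFibLib.subsingleton_const_pow _ r hr 2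
          (AsCohLib.subsingleton_above_dim r (pullback.snd f (cp A)) 1 hdim 1 le_rfl) e
      haveI : Subsingleton (EtCoh.H (pullback f (cp A))
          ((EtCoh.pull (pullback.fst f (cp A))).obj (EtCoh.const X (ZMod (r ^ e)))) 2) :=
        ((EtCoh.HF _ 2).mapIso (EtCore.pullConst (pullback.fst f (cp A))
          (ZMod (r ^ e)))).addCommGroupIsoToAddEquiv.toEquiv.subsingleton_congr.2 h2
      exact fun y => ⟨0, Subsingleton.elim _ _⟩
  | (i + 3) =>
    haveI : Subsingleton (EtCoh.H (pullback f (cp A))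
        ((EtCoh.pull (pullback.fst f (cp A))).obj (EtCoh.const X (ZMod (r ^ e)))) (i + 3)) :=
      cohDimLE_two (pullback.snd f (cp A)) hdim _ hT _ (by omega)
    exact fun y => ⟨0, Subsingleton.elim _ _⟩

/-- Proper curves over strictly henselian rings. -/
theorem van_curve (A : Type u) [CommRing A] [HenselianLocalRing A] [IsSepClosed (IsLocalRing.ResidueField A)]
    {X : Scheme.{u}} (f : X ⟶ Spec (CommRingCat.of A)) [IsProper f] [LocallyOfFinitePresentation f]
    (hdim : topologicalKrullDim ↥(pullback f (cp A)) ≤ 1) : Van A f := by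
  intro J hJ n hn q hq
  haveI : IsClosedImmersion (cp A) := IsClosedImmersion.spec_of_surjective _ Ideal.Quotient.mk_surjective
  haveI : CompactSpace X := QuasiCompact.compactSpace_of_compactSpace f
  haveI : QuasiSeparatedSpace X := quasiSeparatedSpace_of_quasiSeparated f
  haveI : CompactSpace ↥(pullback f (cp A)) := QuasiCompact.compactSpace_of_compactSpace (pullback.snd f (cp A))
  haveI : QuasiSeparatedSpace ↥(pullback f (cp A)) :=
    quasiSeparatedSpace_of_quasiSeparated (pullback.snd f (cp A))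
  have H : CovHyp (pullback.fst f (cp A)) (fun d => 0 < d) q := by
    intro X' p hp hfp m hm hpp
    obtain ⟨r, e, hr, rfl⟩ := hpp
    haveI := hp
    haveI := hfp
    let f' := p ≫ f
    haveI : IsProper f' := inferInstance
    haveI : LocallyOfFinitePresentation f' := inferInstance
    let sq := (IsPullback.of_hasPullback p (pullback.fst f (cp A))).paste_vert (IsPullback.of_hasPullback f (cp A))
    let u := sq.isoPullback
    have hu : u.hom ≫ pullback.fst f' (cp A) = pullback.fst p (pullback.fst f (cp A)) := sq.isoPullback_hom_fst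
    have hdim' : topologicalKrullDim ↥(pullback f' (cp A)) ≤ 1 := by
      let t : pullback f' (cp A) ⟶ pullback f (cp A) := u.inv ≫ pullback.snd p (pullback.fst f (cp A))
      haveI : LocallyQuasiFinite t := inferInstance
      exact (AlgSpRegLib.topDim_le_of_lqf t).trans hdim
    refine ⟨(EtExtLib.bijective_comp u.hom _ _ hu _ 0 (bijective_of_iso _ _ _)
      (EtH1PBC.bijective_Hpull_zero A f' _)).1, fun i _ => ?_⟩
    exact surjective_comp u.hom _ _ hu _ i (bijective_of_iso _ _ _).2 (surjective_const A f' hdim' r e hr i)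
  have h1 := range_torsion CovDevLib.moduli_pos H (nTor J n)
    (torsionBy_of_isTorsion (isTorsion_of_nsmul hn (nsmul_nTor J n))) (fun m hm => ?_)
  · haveI := subsingleton_H_nTor J hn q hq
    exact (Equiv.ofBijective _ (h1.1 q le_rfl)).subsingleton_congr.1 inferInstance
  · obtain rfl : m = 1 := by
      rcases Nat.eq_zero_or_pos m with rfl | hm0
      · exact absurd (hm 2 two_pos) (by decide)
      · exact (Nat.coprime_self m).1 (hm m hm0)
    rw [one_smul]
    infer_instance

end EtPBCProperLib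

end
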