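import Groth.Agent.EtAcycLib.Local
import Groth.Agent.EtShLib.FlasquePush
import Groth.Agent.EtSliceLib.Basic
import Groth.Agent.CdCurveLib.PushPt
import Groth.Agent.CovDevLib.Devissage

/-!
# Effacement by the `n`-torsion of injective sheaves
-/

set_option autoImplicit false
set_option linter.unusedSectionVars false
set_option linter.style.haveILetI false
set_option backward.isDefEq.respectTransparency false
set_option backward.isDefEq.respectTransparency.types false
set_option maxHeartbeats 1000000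
set_option synthInstance.maxHeartbeats 400000

universe u

open CategoryTheory CategoryTheory.Limits CategoryTheory.Abelian AlgebraicGeometry Opposite
open Groth.Agent Groth.Agent.EtShLib DescSecLib EtSliceLib EtAcycLib

attribute [local instance] CategoryTheory.Abelian.hasFiniteBiproducts

noncomputable section

namespace EtPBCProperLib

variable {X Y : Scheme.{u}}

/-- The subsheaf killed by `n`. -/
abbrev nTor (J : EtCoh.Ab X) (n : ℕ) : EtCoh.Ab X := kernel (n • 𝟙 J)

theorem nsmul_nTor (J : EtCoh.Ab X) (n : ℕ) : n • 𝟙 (nTor J n) = 0 := by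
  rw [← cancel_mono (kernel.ι (n • 𝟙 J)), zero_comp, Preadditive.nsmul_comp, Category.id_comp]
  have h := kernel.condition (n • 𝟙 J)
  rwa [Preadditive.comp_nsmul, Category.comp_id] at h

theorem mono_nsmul_const (X : Scheme.{u}) {n : ℕ} (hn : 0 < n) : Mono (n • 𝟙 (EtCoh.const X ℤ)) := by
  let T := constantSheaf X.smallEtaleTopology AddCommGrpCat.{u + 1}
  let Z := AddCommGrpCat.of (ULift.{u + 1} ℤ)
  haveI : PreservesFiniteLimits T := by dsimp only [T, constantSheaf]; infer_instance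
  haveI : T.Additive := Functor.additive_of_preserves_binary_products T
  haveI : Mono (n • 𝟙 Z) := (AddCommGrpCat.mono_iff_injective _).2 fun x y h => by
    have h' : AddCommGrpCat.homAddEquiv (n • 𝟙 Z) x = AddCommGrpCat.homAddEquiv (n • 𝟙 Z) y := h
    rw [map_nsmul, AddMonoidHom.nsmul_apply, AddMonoidHom.nsmul_apply] at h'
    have h2 : n • x.down = n • y.down := congrArg ULift.down h'
    rw [nsmul_eq_mul, nsmul_eq_mul] at h2
    exact ULift.ext _ _ (mul_left_cancel₀ (Nat.cast_ne_zero.2 hn.ne') h2)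
  show Mono (n • 𝟙 (T.obj Z))
  rw [← CategoryTheory.Functor.map_id, ← Functor.map_nsmul]
  infer_instance

theorem mk₀_nsmul {C : Type*} [Category C] [Abelian C] [HasExt.{u + 1} C] {A B : C} (n : ℕ) (f : A ⟶ B) :
    n • Ext.mk₀ f = Ext.mk₀ (n • f) := by
  induction n with
  | zero => rw [zero_nsmul, zero_nsmul, Ext.mk₀_zero]
  | succ m ih => rw [succ_nsmul, succ_nsmul, Ext.mk₀_add, ih]

/-- Vanishing of the higher `Ext` into the kernel of an epimorphism of injectives. -/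
theorem subsingleton_ext_kernel {C : Type*} [Category C] [Abelian C] [HasExt.{u + 1} C] (Z : C) {S : ShortComplex C}
    (hS : S.ShortExact) [Injective S.X₂] [Injective S.X₃]
    (hsur : ∀ γ : Z ⟶ S.X₃, ∃ α : Z ⟶ S.X₂, α ≫ S.g = γ) (q : ℕ) (hq : 0 < q) :
    Subsingleton (Ext.{u + 1} Z S.X₁ q) := by
  obtain ⟨j, rfl⟩ : ∃ j, q = j + 1 := ⟨q - 1, by omega⟩
  refine subsingleton_of_forall_eq 0 fun x => ?_
  obtain ⟨c, rfl⟩ := Ext.covariant_sequence_exact₁ _ hS x (Ext.eq_zero_of_injective _) (n₀ := j) rfl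
  rcases j with _ | i
  · obtain ⟨γ, rfl⟩ := (Ext.mk₀_bijective _ _).2 c
    obtain ⟨α, rfl⟩ := hsur γ
    rw [← Ext.mk₀_comp_mk₀, Ext.comp_assoc_of_second_deg_zero, hS.comp_extClass, Ext.comp_zero]
  · rw [Ext.eq_zero_of_injective c, Ext.zero_comp]

theorem exists_nsmul_const (X : Scheme.{u}) (J : EtCoh.Ab X) [Injective J] {n : ℕ} (hn : 0 < n)
    (γ : EtCoh.const X ℤ ⟶ J) : ∃ α : EtCoh.const X ℤ ⟶ J, n • α = γ := by
  haveI := mono_nsmul_const X hn
  refine ⟨Injective.factorThru γ (n • 𝟙 (EtCoh.const X ℤ)), ?_⟩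
  have h := Injective.comp_factorThru γ (n • 𝟙 (EtCoh.const X ℤ))
  rwa [Preadditive.nsmul_comp, Category.id_comp] at h

theorem exists_nsmul_hom (J : EtCoh.Ab X) [Injective J] {n : ℕ} (hn : 0 < n) (W : X.Etale) (φ : free W ⟶ J) :
    ∃ ψ : free W ⟶ J, n • ψ = φ := by
  haveI := injective_pull W J
  obtain ⟨γ, hγ⟩ := (Ext.mk₀_bijective _ _).2 (psi W J 0 (Ext.mk₀ φ))
  obtain ⟨α, hα⟩ := exists_nsmul_const W.left ((EtCoh.pull W.hom).obj J) hn γ
  obtain ⟨z, hz⟩ := (psi_bijective W 0 J).2 (Ext.mk₀ α)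
  obtain ⟨ψ, rfl⟩ := (Ext.mk₀_bijective _ _).2 z
  refine ⟨ψ, (Ext.mk₀_bijective _ _).1 ((psi_bijective W 0 J).1 ?_)⟩
  rw [← mk₀_nsmul, map_nsmul, hz, ← hγ, ← hα]
  exact mk₀_nsmul n α

theorem epi_nsmul (J : EtCoh.Ab X) [Injective J] {n : ℕ} (hn : 0 < n) : Epi (n • 𝟙 J) := by
  refine Preadditive.epi_of_cancel_zero _ fun {G} g hg => ?_
  refine Sheaf.hom_ext (NatTrans.ext (funext fun W => AddCommGrpCat.ext fun s => ?_))
  obtain ⟨ψ, hψ⟩ := exists_nsmul_hom J hn W.unop (desc W.unop s)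
  have h : desc W.unop s ≫ g = 0 := by
    rw [← hψ]
    calc (n • ψ) ≫ g = ψ ≫ ((n • 𝟙 J) ≫ g) := by simp
      _ = 0 := by rw [hg, comp_zero]
  have h2 := congrArg (fun t => t.hom.app W (gen W.unop)) h
  rw [← desc_gen W.unop s]
  exact h2

/-- The `n`-torsion of an injective sheaf is acyclic. -/
theorem subsingleton_H_nTor (J : EtCoh.Ab X) [Injective J] {n : ℕ} (hn : 0 < n) (q : ℕ) (hq : 0 < q) :
    Subsingleton (EtCoh.H X (nTor J n) q) := by
  haveI := epi_nsmul J hn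
  let S : ShortComplex (EtCoh.Ab X) := ShortComplex.mk (kernel.ι (n • 𝟙 J)) (n • 𝟙 J) (kernel.condition _)
  have hS : S.ShortExact :=
    { exact := ShortComplex.exact_of_f_is_kernel _ (kernelIsKernel _)
      mono_f := inferInstanceAs (Mono (kernel.ι (n • 𝟙 J)))
      epi_g := inferInstanceAs (Epi (n • 𝟙 J)) }
  exact @subsingleton_ext_kernel (EtCoh.Ab X) _ _ _ (EtCoh.const X ℤ) S hS ‹Injective J› ‹Injective J› (fun γ => by
    obtain ⟨α, hα⟩ := exists_nsmul_const X J hn γ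
    refine ⟨α, ?_⟩
    show α ≫ (n • 𝟙 J) = γ
    rw [Preadditive.comp_nsmul, Category.comp_id]
    exact hα) q hq

/-- Restriction along an étale object commutes with `n`-torsion. -/
def pullNTor {T : Scheme.{u}} (g : T ⟶ X) [PreservesFiniteLimits (EtCoh.pull g)] (J : EtCoh.Ab X) (n : ℕ) :
    (EtCoh.pull g).obj (nTor J n) ≅ nTor ((EtCoh.pull g).obj J) n :=
  haveI : (EtCoh.pull g).Additive := (EtCoh.pullPushAdj g).left_adjoint_additive
  PreservesKernel.iso (EtCoh.pull g) (n • 𝟙 J) ≪≫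
    kernelIsoOfEq (by rw [Functor.map_nsmul, CategoryTheory.Functor.map_id])

theorem subsingleton_ext_free_nTor (J : EtCoh.Ab X) [Injective J] {n : ℕ} (hn : 0 < n) (W : X.Etale) (q : ℕ)
    (hq : 0 < q) : Subsingleton (Ext.{u + 1} (free W) (nTor J n) q) := by
  haveI := injective_pull W J
  have h0 := subsingleton_H_nTor ((EtCoh.pull W.hom).obj J) hn q hq
  haveI : Subsingleton (EtCoh.H W.left ((EtCoh.pull W.hom).obj (nTor J n)) q) :=
    @Function.Injective.subsingleton _ _ _ (EtAcycLib.bijective_mk₀_iso_postcomp (pullNTor W.hom J n) q).1 h0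
  exact (psi_bijective W q (nTor J n)).1.subsingleton

theorem isZero_Rpush_nTor (h : X ⟶ Y) (J : EtCoh.Ab X) [Injective J] {n : ℕ} (hn : 0 < n) (q : ℕ) (hq : 0 < q) :
    IsZero ((EtCoh.Rpush h q).obj (nTor J n)) := by
  obtain ⟨j, rfl⟩ : ∃ j, q = j + 1 := ⟨q - 1, by omega⟩
  refine EtAcycLib.isZero_Rpush_of_killed h j _ fun W y w => ⟨W, 𝟙 W, ⟨w, rfl⟩, ?_⟩
  haveI := subsingleton_ext_free_nTor J hn ((EtCoh.bc h).obj W) (j + 1) (by omega)
  exact Subsingleton.elim (α := Ext.{u + 1} (free ((EtCoh.bc h).obj W)) (nTor J n) (j + 1)) _ _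

/-- Direct image commutes with `n`-torsion. -/
def pushNTor (h : X ⟶ Y) (J : EtCoh.Ab X) (n : ℕ) :
    (EtCoh.push h).obj (nTor J n) ≅ nTor ((EtCoh.push h).obj J) n :=
  haveI : (EtCoh.push h).Additive := { }
  haveI : PreservesLimitsOfSize.{0, 0} (EtCoh.push h) := (EtCoh.pullPushAdj h).rightAdjoint_preservesLimits
  PreservesKernel.iso (EtCoh.push h) (n • 𝟙 J) ≪≫
    kernelIsoOfEq (by rw [Functor.map_nsmul, CategoryTheory.Functor.map_id])

/-- A sheaf killed by `n` embeds in the `n`-torsion of an injective. -/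
theorem exists_mono_nTor {F : EtCoh.Ab X} {n : ℕ} (hF : n • 𝟙 F = 0) :
    ∃ (J : EtCoh.Ab X) (_ : Injective J) (m : F ⟶ nTor J n), Mono m := by
  let ip := (EnoughInjectives.presentation F).some
  haveI : Injective ip.J := ip.injective
  let m : F ⟶ nTor ip.J n := kernel.lift _ ip.f (by
    rw [Preadditive.comp_nsmul, Category.comp_id, ← Category.id_comp ip.f, ← Preadditive.nsmul_comp, hF, zero_comp])
  haveI : Mono (m ≫ kernel.ι _) := by rw [kernel.lift_ι]; infer_instance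
  exact ⟨ip.J, ip.injective, m, mono_of_mono m (kernel.ι _)⟩

/-- The `n`-torsion of an injective is injective among sheaves killed by `n`. -/
theorem exists_retraction (J : EtCoh.Ab X) [Injective J] (n : ℕ) {K : EtCoh.Ab X} (hK : n • 𝟙 K = 0)
    (m : nTor J n ⟶ K) [Mono m] : ∃ r : K ⟶ nTor J n, m ≫ r = 𝟙 _ := by
  let t : K ⟶ J := Injective.factorThru (kernel.ι (n • 𝟙 J)) m
  let r : K ⟶ nTor J n := kernel.lift _ t (by
    rw [Preadditive.comp_nsmul, Category.comp_id, ← Category.id_comp t, ← Preadditive.nsmul_comp, hK, zero_comp])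
  refine ⟨r, (cancel_mono (kernel.ι (n • 𝟙 J))).1 ?_⟩
  rw [Category.assoc, kernel.lift_ι, Category.id_comp]
  exact Injective.comp_factorThru _ _

theorem isTorsion_of_nsmul {F : EtCoh.Ab X} {n : ℕ} (hn : 0 < n) (hF : n • 𝟙 F = 0) : EtCoh.IsTorsion F := by
  intro U s x
  refine ⟨U, 𝟙 U, ⟨x, rfl⟩, isOfFinAddOrder_iff_nsmul_eq_zero.2 ⟨n, hn, ?_⟩⟩
  have h := congrArg (fun t => t.hom.app (op U) s) hF
  rw [op_id, CategoryTheory.Functor.map_id]
  exact (Groth.Agent.ConsEffaceLib.app_nsmul_id F n U s).symm.trans h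

end EtPBCProperLib

end
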