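import Groth.Agent.EtPBCProperLib.Point

/-!
# Extensions of separably closed fields
-/

set_option autoImplicit false
set_option linter.unusedSectionVars false
set_option linter.style.haveILetI false
set_option backward.isDefEq.respectTransparency false
set_option backward.isDefEq.respectTransparency.types false
set_option maxHeartbeats 1000000
set_option synthInstance.maxHeartbeats 400000

universe u

open CategoryTheory CategoryTheory.Limits CategoryTheory.Abelian AlgebraicGeometry Opposite
open Groth.Agent Groth.Agent.EtShLib CohB1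
open FEtProper (spR)

attribute [local instance] EtSliceLib.pullExact

noncomputable section

namespace EtPBCProperLib

variable {X Y : Scheme.{u}}

/-- Extensions of separably closed fields kill the effacing sheaves, universally. -/
def FGood {S : Scheme.{u}} (h : X ⟶ S) : Prop :=
  ∀ (k K : Type u) [Field k] [IsSepClosed k] [Field K] [IsSepClosed K] [Algebra k K] (X' : Scheme.{u})
    (g' : X' ⟶ X) (f' : X' ⟶ Spec (CommRingCat.of k)) (g : Spec (CommRingCat.of k) ⟶ S), IsPullback g' f' h g →
    ∀ (J : EtCoh.Ab X'), Injective J → ∀ n : ℕ, 0 < n → ∀ q : ℕ, 0 < q →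
      Subsingleton (EtCoh.H (pullback f' (spR k K)) ((EtCoh.pull (pullback.fst f' (spR k K))).obj (nTor J n)) q)

theorem FGood.of_isPullback {S S' X' : Scheme.{u}} {f : X ⟶ S} (hf : FGood f) {g' : X' ⟶ X} {f' : X' ⟶ S'}
    {g : S' ⟶ S} (h : IsPullback g' f' f g) : FGood f' := fun k K _ _ _ _ _ _ a _ b hp =>
  hf k K _ (a ≫ g') _ (b ≫ g) (hp.paste_horiz h)

/-- Invariance of torsion cohomology from `FGood`. -/
theorem bijective_of_fgood {S : Scheme.{u}} {h : X ⟶ S} (hh : FGood h) {k K : Type u} [Field k] [IsSepClosed k]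
    [Field K] [IsSepClosed K] [Algebra k K] {X' : Scheme.{u}} {g' : X' ⟶ X} {f' : X' ⟶ Spec (CommRingCat.of k)}
    [IsProper f'] {g : Spec (CommRingCat.of k) ⟶ S} (hp : IsPullback g' f' h g) (F : EtCoh.Ab X')
    (hT : EtCoh.IsTorsion F) (q : ℕ) : Function.Bijective (EtCore.Hpull (pullback.fst f' (spR k K)) F q) := by
  haveI : CompactSpace X' := QuasiCompact.compactSpace_of_compactSpace f'
  haveI : QuasiSeparatedSpace X' := quasiSeparatedSpace_of_quasiSeparated f'
  haveI : CompactSpace ↥(pullback f' (spR k K)) := QuasiCompact.compactSpace_of_compactSpace (pullback.snd f' (spR k K))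
  haveI : QuasiSeparatedSpace ↥(pullback f' (spR k K)) :=
    quasiSeparatedSpace_of_quasiSeparated (pullback.snd f' (spR k K))
  exact bijective_of_killed _ (bijective_killed_of_efface _
    (fun G => bijective_zero_field k (IsPullback.of_hasPullback f' (spR k K)) G) (hh k K X' g' f' g hp)) F hT q

theorem exists_sep_geomPt (Y : Scheme.{u}) {k : Type u} [Field k] [IsSepClosed k] (ξ : Spec (CommRingCat.of k) ⟶ Y) :
    ∃ (Ω : Type u) (_ : Field Ω) (_ : IsSepClosed Ω) (y : Y) (_ : Algebra (Y.residueField y) Ω)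
      (_ : Algebra.IsAlgebraic (Y.residueField y) Ω) (_ : Algebra Ω k),
      spR Ω k ≫ EtAcyc.geomPt Y y Ω = ξ := by
  let y := ξ.base (IsLocalRing.closedPoint k)
  let φ : Y.residueField y →+* k := (Scheme.descResidueField (Scheme.stalkClosedPointTo ξ)).hom
  letI := φ.toAlgebra
  let τ : SeparableClosure (Y.residueField y) →ₐ[Y.residueField y] k := IsSepClosed.lift
  haveI : IsSepClosed (SeparableClosure (Y.residueField y)) := IsSepClosure.sep_closed (Y.residueField y)
  refine ⟨SeparableClosure (Y.residueField y), inferInstance, inferInstance, y, inferInstance, inferInstance,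
    τ.toRingHom.toAlgebra, ?_⟩
  refine Eq.trans ?_ (Scheme.SpecToEquivOfField k Y |>.left_inv ξ)
  show Spec.map _ ≫ Spec.map _ ≫ Y.fromSpecResidueField y = Spec.map _ ≫ Y.fromSpecResidueField y
  rw [← Spec.map_comp_assoc]
  exact congrArg (fun t => Spec.map t ≫ Y.fromSpecResidueField y) (CommRingCat.hom_ext τ.comp_algebraMap)

/-- A good map kills the effacing sheaves on all geometric fibres. -/
theorem subsingleton_fibre {h : X ⟶ Y} [IsProper h] (hh : FGood h) (J : EtCoh.Ab X) [Injective J] {n : ℕ} (hn : 0 < n)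
    (q : ℕ) (hq : 0 < q) {k : Type u} [Field k] [IsSepClosed k] (ξ : Spec (CommRingCat.of k) ⟶ Y) :
    Subsingleton (EtCoh.H (pullback h ξ) ((EtCoh.pull (pullback.fst h ξ)).obj (nTor J n)) q) := by
  obtain ⟨Ω, _, _, y, _, _, _, rfl⟩ := exists_sep_geomPt Y ξ
  let ξ₀ := EtAcyc.geomPt Y y Ω
  let f₀ := pullback.snd h ξ₀
  let a₀ := pullback.fst h ξ₀
  let b := pullback.fst f₀ (spR Ω k)
  haveI := subsingleton_geomFibre (good_of_isProper h) J hn q hq y Ω
  have hb := bijective_of_fgood hh (K := k) (IsPullback.of_hasPullback h ξ₀) _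
    (CdCurveLib.isTorsion_pull_map a₀ (isTorsion_of_nsmul hn (nsmul_nTor J n))) q
  have h1 : Subsingleton (EtCoh.H (pullback f₀ (spR Ω k)) ((EtCoh.pull (b ≫ a₀)).obj (nTor J n)) q) :=
    (subsingleton_H_via b a₀ _ rfl _ q).1 ((Equiv.ofBijective _ hb).subsingleton_congr.1 inferInstance)
  let e := ((IsPullback.of_hasPullback f₀ (spR Ω k)).paste_horiz (IsPullback.of_hasPullback h ξ₀)).isoPullback
  exact (subsingleton_H_homeo e.hom (pullback.fst h _) (b ≫ a₀) (IsPullback.isoPullback_hom_fst _) (nTor J n) q).2 h1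

/-- Direct images of the effacing sheaves after an arbitrary base change. -/
theorem isZero_Rpush_baseChange {h : X ⟶ Y} [IsProper h] (hh : FGood h) {X₀ Y₀ : Scheme.{u}} (i : Y₀ ⟶ Y)
    (i' : X₀ ⟶ X) (h₀ : X₀ ⟶ Y₀) (hc : IsPullback i' h₀ h i) (J : EtCoh.Ab X) [Injective J] {n : ℕ} (hn : 0 < n)
    (q : ℕ) (hq : 0 < q) : IsZero ((EtCoh.Rpush h₀ q).obj ((EtCoh.pull i').obj (nTor J n))) := by
  haveI : IsProper h₀ := MorphismProperty.of_isPullback hc inferInstance
  refine isZero_of_geomPt_stalks _ fun y => ?_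
  let R := HenselLib.SH (Y₀.presheaf.stalk y)
  have hS : Hensel.IsStrictHenselization (Y₀.presheaf.stalk y) R := inferInstance
  haveI := hS.henselian
  haveI : IsSepClosed (IsLocalRing.ResidueField R) := hS.isSepClosure.sep_closed
  refine ⟨R, inferInstance, inferInstance, inferInstance, inferInstance, inferInstance, ?_⟩
  obtain ⟨e⟩ := Groth.Agent.S0620.result h₀ ((EtCoh.pull i').obj (nTor J n)) y R q
  refine e.addCommGroupIsoToAddEquiv.toEquiv.subsingleton_congr.2 ?_
  let Ω := SeparableClosure (Y₀.residueField y)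
  haveI : IsSepClosed Ω := IsSepClosure.sep_closed (Y₀.residueField y)
  refine (subsingleton_sh_iff (good_of_isProper h₀) y R Ω _
    (CdCurveLib.isTorsion_pull_map i' (isTorsion_of_nsmul hn (nsmul_nTor J n))) q).2 ?_
  haveI := subsingleton_fibre hh J hn q hq (EtAcyc.geomPt Y₀ y Ω ≫ i)
  let a := pullback.fst h₀ (EtAcyc.geomPt Y₀ y Ω)
  refine (subsingleton_H_via a i' (a ≫ i') rfl (nTor J n) q).2 ?_
  let u := ((IsPullback.of_hasPullback h₀ (EtAcyc.geomPt Y₀ y Ω)).paste_horiz hc).isoPullback
  exact (subsingleton_H_homeo u.hom (pullback.fst _ _) (a ≫ i') (IsPullback.isoPullback_hom_fst _) (nTor J n) q).1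
    inferInstance

/-- Pullback commutes with the direct image of effacing sheaves. -/
theorem subsingleton_push_baseChange {h : X ⟶ Y} [IsProper h] (hh : FGood h) {X₀ Y₀ : Scheme.{u}} (i : Y₀ ⟶ Y)
    (i' : X₀ ⟶ X) (h₀ : X₀ ⟶ Y₀) (hc : IsPullback i' h₀ h i) (J : EtCoh.Ab X) [Injective J] {n : ℕ} (hn : 0 < n)
    (q : ℕ) : Subsingleton (EtCoh.H Y₀ ((EtCoh.pull i).obj ((EtCoh.push h).obj (nTor J n))) q) ↔
      Subsingleton (EtCoh.H X₀ ((EtCoh.pull i').obj (nTor J n)) q) := by
  haveI := EtProperH0Lib.isIso_baseChange0 hc (nTor J n)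
  have e1 := ((EtCoh.HF Y₀ q).mapIso
    (asIso (EtCoh.baseChange0 h i h₀ i' hc.w (nTor J n)))).addCommGroupIsoToAddEquiv.toEquiv
  exact e1.subsingleton_congr.trans (Equiv.ofBijective _ (Groth.Agent.S14451.result h₀ ((EtCoh.pull i').obj (nTor J n))
    (fun p hp => isZero_Rpush_baseChange hh i i' h₀ hc J hn p hp) q)).subsingleton_congr

/-- Composition. -/
theorem FGood.comp {S : Scheme.{u}} {h : X ⟶ Y} [IsProper h] (hh : FGood h) {g : Y ⟶ S} [IsProper g] (hg : FGood g) :
    FGood (h ≫ g) := by
  intro k K _ _ _ _ _ X' a f' b hp J hJ n hn q hq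
  let Y' := pullback g b
  let h' : X' ⟶ Y' := pullback.lift (a ≫ h) f' (by rw [Category.assoc, hp.w])
  have hh' : IsPullback a h' h (pullback.fst g b) :=
    IsPullback.of_bot (by rw [pullback.lift_snd]; exact hp) (pullback.lift_fst _ _ _).symm
      (IsPullback.of_hasPullback g b)
  haveI : IsProper h' := MorphismProperty.of_isPullback hh' inferInstance
  let g₁ := pullback.snd g b
  let i' := pullback.fst f' (spR k K)
  let h₀ : pullback f' (spR k K) ⟶ pullback g₁ (spR k K) :=
    pullback.lift (i' ≫ h') (pullback.snd _ _) (by rw [Category.assoc, pullback.lift_snd, pullback.condition])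
  have hc : IsPullback i' h₀ h' (pullback.fst g₁ (spR k K)) :=
    IsPullback.of_bot (by rw [pullback.lift_snd, pullback.lift_snd]; exact IsPullback.of_hasPullback f' (spR k K))
      (pullback.lift_fst _ _ _).symm (IsPullback.of_hasPullback g₁ (spR k K))
  refine (subsingleton_push_baseChange (hh.of_isPullback hh') (pullback.fst g₁ (spR k K)) i' h₀ hc J hn q).1 ?_
  haveI : Injective ((EtCoh.push h').obj J) := EtShLib.injective_push h' J
  refine (((EtCoh.HF _ q).mapIso ((EtCoh.pull (pullback.fst g₁ (spR k K))).mapIso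
    (pushNTor h' J n))).addCommGroupIsoToAddEquiv.toEquiv.subsingleton_congr).2 ?_
  exact hg k K Y' (pullback.fst g b) g₁ b (IsPullback.of_hasPullback g b) _ inferInstance n hn q hq

/-- Descent along a surjection. -/
theorem FGood.of_surjective {S X'' : Scheme.{u}} {p : X'' ⟶ X} [IsProper p] [Surjective p] (hp : FGood p) {f : X ⟶ S}
    [IsProper f] (hpf : FGood (p ≫ f)) : FGood f := by
  intro k K _ _ _ _ _ X' a f' b hsq J hJ n hn q hq
  let p' : pullback p a ⟶ X' := pullback.snd p a
  haveI : IsProper p' := inferInstance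
  haveI : Surjective p' := inferInstance
  have hpb : FGood p' := hp.of_isPullback (IsPullback.of_hasPullback p a)
  let I := nTor J n
  haveI : (EtCoh.pull p').Additive := (EtCoh.pullPushAdj p').left_adjoint_additive
  haveI : (EtCoh.push p').Additive := { }
  have hI : n • 𝟙 ((EtCoh.pull p').obj I) = 0 := by
    rw [← CategoryTheory.Functor.map_id, ← Functor.map_nsmul, nsmul_nTor, Functor.map_zero]
  obtain ⟨J', hJ', m, hm⟩ := exists_mono_nTor hI
  haveI := hm
  haveI : Mono ((EtCoh.pullPushAdj p').unit.app I) := EtBcQLib.mono_unit p' p'.surjective I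
  haveI : PreservesLimitsOfSize.{0, 0} (EtCoh.push p') := (EtCoh.pullPushAdj p').rightAdjoint_preservesLimits
  haveI : PreservesFiniteLimits (EtCoh.push p') := PreservesLimitsOfSize.preservesFiniteLimits _
  let M : I ⟶ (EtCoh.push p').obj (nTor J' n) := (EtCoh.pullPushAdj p').unit.app I ≫ (EtCoh.push p').map m
  haveI : Mono M := mono_comp _ _
  obtain ⟨r, hr⟩ := exists_retraction J n (by
    rw [← CategoryTheory.Functor.map_id, ← Functor.map_nsmul, nsmul_nTor, Functor.map_zero]) M
  haveI := hJ'
  let i := pullback.fst f' (spR k K)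
  let i' := pullback.fst (p' ≫ f') (spR k K)
  let h₀ : pullback (p' ≫ f') (spR k K) ⟶ pullback f' (spR k K) :=
    pullback.lift (i' ≫ p') (pullback.snd _ _) (by rw [Category.assoc, pullback.condition])
  have hc : IsPullback i' h₀ p' i :=
    IsPullback.of_bot (by rw [pullback.lift_snd]; exact IsPullback.of_hasPullback (p' ≫ f') (spR k K))
      (pullback.lift_fst _ _ _).symm (IsPullback.of_hasPullback f' (spR k K))
  have hK : Subsingleton (EtCoh.H (pullback f' (spR k K))
      ((EtCoh.pull i).obj ((EtCoh.push p').obj (nTor J' n))) q) :=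
    (subsingleton_push_baseChange hpb i i' h₀ hc J' hn q).2
      (hpf k K _ (pullback.fst p a) (p' ≫ f') b ((IsPullback.of_hasPullback p a).paste_vert hsq) J' inferInstance n hn q hq)
  refine subsingleton_of_forall_eq 0 fun x => ?_
  let P := EtCoh.pull i
  have h1 : (x : Ext.{u + 1} _ (P.obj I) q).comp (Ext.mk₀ (P.map M ≫ P.map r)) (add_zero q) = x := by
    rw [← Functor.map_comp, hr, CategoryTheory.Functor.map_id, Ext.comp_mk₀_id]
  rw [← h1, ← Ext.mk₀_comp_mk₀, ← Ext.comp_assoc_of_second_deg_zero]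
  exact (congrArg (fun t => Ext.comp t (Ext.mk₀ (P.map r)) (add_zero q))
    (hK.elim ((x : Ext.{u + 1} _ (P.obj I) q).comp (Ext.mk₀ (P.map M)) (add_zero q)) 0)).trans (Ext.zero_comp _ _ _ _ _)

theorem fgood_of_isFinite {S : Scheme.{u}} (f : X ⟶ S) [IsFinite f] : FGood f := by
  intro k K _ _ _ _ _ X' a f' b hp J hJ n hn q hq
  haveI : IsFinite f' := MorphismProperty.of_isPullback hp inferInstance
  let h₀ := pullback.snd f' (spR k K)
  haveI : IsFinite h₀ := MorphismProperty.pullback_snd _ _ ‹IsFinite f'›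
  haveI : IsSepClosed (IsLocalRing.ResidueField K) := SkySumLib.isSepClosed_residueField_self K
  let G := (EtCoh.pull (pullback.fst f' (spR k K))).obj (nTor J n)
  haveI := Groth.Agent.EtShLib.subsingleton_H K ((EtCoh.push h₀).obj G) q hq
  exact (Equiv.ofBijective _ (Groth.Agent.S14451.result h₀ G
    (fun p hp => isZero_rightDerived_push_finite h₀ G p hp) q)).subsingleton_congr.1 inferInstance

theorem fgood_line (S : Scheme.{u}) : FGood (ProjSpaceOver.toBase 1 S) := by
  intro k K _ _ _ _ _ X' g' f' g hp J hJ n hn q hq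
  haveI : IsProper f' := MorphismProperty.of_isPullback hp inferInstance
  obtain ⟨qm, hqm, -⟩ := PicPnLib.exists_map 1 k
  have h1 : IsPullback (g' ≫ pullback.fst (ProjSpace.toSpec 1 (ULift.{u} ℤ)) (specULiftZIsTerminal.from S)) f'
      (ProjSpace.toSpec 1 (ULift.{u} ℤ)) (specULiftZIsTerminal.from _) := by
    rw [← specULiftZIsTerminal.hom_ext (g ≫ specULiftZIsTerminal.from S) (specULiftZIsTerminal.from _)]
    exact hp.paste_horiz (IsPullback.of_hasPullback _ _)
  have hdim : topologicalKrullDim X' ≤ 1 :=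
    (le_of_eq ((h1.isoIsPullback _ _ hqm).schemeIsoToHomeo.isHomeomorph.topologicalKrullDim_eq)).trans
      (VBP1Lib.dim_line _).le
  haveI := subsingleton_H_nTor J hn q hq
  exact (Equiv.ofBijective _ (EtExtLib.bijective_sepClosed f' hdim (nTor J n)
    (isTorsion_of_nsmul hn (nsmul_nTor J n)) q)).subsingleton_congr.1 inferInstance

theorem fgood_linePow (n : ℕ) (S : Scheme.{u}) : FGood (linePowBase n S) := by
  induction n with
  | zero =>
    let l : S ⟶ linePow 0 S := WidePullback.lift (𝟙 S) (fun i => i.elim0) (fun i => i.elim0)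
    haveI : IsIso (linePowBase 0 S) := ⟨l, WidePullback.hom_ext _ _ _ (fun i => i.elim0)
      (by rw [Category.assoc, WidePullback.lift_base, Category.comp_id, Category.id_comp]), WidePullback.lift_base _ _ _ _⟩
    exact fgood_of_isFinite _
  | succ n ih =>
    obtain ⟨tr, hb, hsq⟩ := isPullback_linePow n S
    haveI := (good_linePow n S).1
    haveI : IsProper tr := MorphismProperty.of_isPullback hsq inferInstance
    rw [← hb]
    exact FGood.comp ((fgood_line S).of_isPullback hsq) ih

theorem fgood_projSpace (n : ℕ) (S : Scheme.{u}) : FGood (ProjSpaceOver.toBase n S) := by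
  obtain ⟨φ, hφ, hs, h⟩ := Groth.Agent.S13502.result S n
  haveI := hφ
  haveI := hs
  refine FGood.of_surjective (fgood_of_isFinite φ) ?_
  rw [h]
  exact fgood_linePow n S

theorem fgood_of_isProper {S : Scheme.{u}} (f : X ⟶ S) [IsProper f] : FGood f := by
  intro k K _ _ _ _ _ X' a f' b hp
  haveI : IsProper f' := MorphismProperty.of_isPullback hp inferInstance
  suffices h : FGood f' from h k K X' (𝟙 X') f' (𝟙 _) IsPullback.of_id_fst
  obtain ⟨n, X'', π, j, hj, w, hπ, hs⟩ := Groth.Agent.S7409.result f'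
  haveI := hj
  haveI := hπ
  haveI := hs
  haveI : IsProper (j ≫ ProjSpaceOver.toBase n (Spec (CommRingCat.of k))) := by rw [w]; infer_instance
  haveI : IsProper j := IsProper.of_comp j (ProjSpaceOver.toBase n (Spec (CommRingCat.of k)))
  haveI : IsClosedImmersion j := IsClosedImmersion.of_isPreimmersion j j.isClosedMap.isClosed_range
  let t := ProjSpaceOver.toBase n (Spec (CommRingCat.of k))
  let γ : X'' ⟶ pullback t f' := pullback.lift j π w
  haveI : IsClosedImmersion (γ ≫ pullback.fst t f') := by rw [pullback.lift_fst]; infer_instance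
  haveI : IsClosedImmersion γ := IsClosedImmersion.of_comp γ (pullback.fst t f')
  have hgπ : FGood (γ ≫ pullback.snd t f') :=
    FGood.comp (fgood_of_isFinite γ) ((fgood_projSpace n _).of_isPullback (IsPullback.of_hasPullback t f'))
  rw [pullback.lift_snd] at hgπ
  refine FGood.of_surjective hgπ ?_
  rw [← w]
  exact FGood.comp (fgood_of_isFinite j) (fgood_projSpace n _)

/-- Extensions of separably closed fields do not change the cohomology of proper schemes. -/
theorem bijective_field {k K : Type u} [Field k] [IsSepClosed k] [Field K] [IsSepClosed K] [Algebra k K]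
    {X : Scheme.{u}} (a : X ⟶ Spec (CommRingCat.of k)) [IsProper a] (F : EtCoh.Ab X) (hT : EtCoh.IsTorsion F) (q : ℕ) :
    Function.Bijective (EtCore.Hpull (pullback.fst a (spR k K)) F q) :=
  bijective_of_fgood (fgood_of_isProper a) (g := 𝟙 _) IsPullback.of_id_fst F hT q

end EtPBCProperLib

end
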