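import Groth.Agent.EtPBCProperLib.Main
import Groth.Agent.AicVanishLib.Affine
import Groth.Agent.S0123

/-!
# Proper schemes over henselian pairs
-/

set_option autoImplicit false
set_option linter.unusedSectionVars false
set_option linter.style.haveILetI false
set_option backward.isDefEq.respectTransparency false
set_option backward.isDefEq.respectTransparency.types false
set_option maxHeartbeats 1000000
set_option synthInstance.maxHeartbeats 400000

universe u

open CategoryTheory CategoryTheory.Limits CategoryTheory.Abelian AlgebraicGeometry Opposite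
open Groth.Agent Groth.Agent.EtShLib

attribute [local instance] EtSliceLib.pullExact

noncomputable section

namespace EtPBCProperLib

variable {A : Type u} [CommRing A] (I : Ideal A) [HenselianRing A I]

/-- The closed subscheme of the pair. -/
abbrev cq : Spec (CommRingCat.of (A ⧸ I)) ⟶ Spec (CommRingCat.of A) :=
  Spec.map (CommRingCat.ofHom (Ideal.Quotient.mk I))

variable {X : Scheme.{u}} (f : X ⟶ Spec (CommRingCat.of A)) [IsProper f]

theorem bijective_zero_pair (G : EtCoh.Ab X) : Function.Bijective (EtCore.Hpull (pullback.fst f (cq I)) G 0) := by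
  let i := pullback.fst f (cq I)
  have h := Groth.Agent.S0123.result A I X f G
  let R := ((EtCoh.pull i).obj G).obj.map (EtCore.bcTopIso i).inv.op
  have hR : Function.Bijective R := ConcreteCategory.bijective_of_isIso R
  have he : (EtContLib.sec ∘ EtCore.Hpull i G 0 : _ → _) =
      R ∘ (((EtCoh.pullPushAdj i).unit.app G).hom.app (op (EtCoh.top X))) ∘ EtContLib.sec :=
    funext fun e => LocAcycStalkLib.sec_Hpull i G e
  refine (Function.Bijective.of_comp_iff' (f := EtContLib.sec) ⟨EtContLib.sec_injective, EtContLib.sec_surjective⟩ _).1 ?_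
  rw [he]
  exact hR.comp (h.comp ⟨EtContLib.sec_injective, EtContLib.sec_surjective⟩)

/-- The affine analogue, on effacing sheaves. -/
theorem subsingleton_affine (J : EtCoh.Ab (Spec (CommRingCat.of A))) [Injective J] {n : ℕ} (hn : 0 < n) (q : ℕ) (hq : 0 < q) :
    Subsingleton (EtCoh.H (Spec (CommRingCat.of (A ⧸ I))) ((EtCoh.pull (cq I)).obj (nTor J n)) q) := by
  haveI : IsClosedImmersion (cq I) := IsClosedImmersion.spec_of_surjective _ Ideal.Quotient.mk_surjective
  let G := (EtCoh.pull (cq I)).obj (nTor J n)
  haveI h0 : Subsingleton (EtCoh.H (Spec (CommRingCat.of A)) (nTor J n) q) := subsingleton_H_nTor J hn q hq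
  have hb := AicVanishLib.gabber_affine A I (nTor J n) (isTorsion_of_nsmul hn (nsmul_nTor J n)) q
  have h1 : Subsingleton (EtCoh.H (Spec (CommRingCat.of A)) ((EtCoh.push (cq I)).obj G) q) :=
    (Equiv.ofBijective _ hb).subsingleton_congr.1 h0
  exact (Equiv.ofBijective _ (Groth.Agent.S14451.result (cq I) G
    (fun p hp => isZero_rightDerived_push_finite (cq I) G p hp) q)).subsingleton_congr.1 h1

/-- The closed fibre kills the effacing sheaves. -/
theorem subsingleton_pair (J : EtCoh.Ab X) [Injective J] {n : ℕ} (hn : 0 < n) (q : ℕ) (hq : 0 < q) :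
    Subsingleton (EtCoh.H (pullback f (cq I)) ((EtCoh.pull (pullback.fst f (cq I))).obj (nTor J n)) q) := by
  refine (subsingleton_push_baseChange (fgood_of_isProper f) (cq I) (pullback.fst f (cq I)) (pullback.snd f (cq I))
    (IsPullback.of_hasPullback f (cq I)) J hn q).1 ?_
  haveI : Injective ((EtCoh.push f).obj J) := EtShLib.injective_push f J
  refine (((EtCoh.HF _ q).mapIso ((EtCoh.pull (cq I)).mapIso
    (pushNTor f J n))).addCommGroupIsoToAddEquiv.toEquiv.subsingleton_congr).2 ?_
  exact subsingleton_affine I _ hn q hq

/-- Proper base change for henselian pairs. -/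
theorem bijective_pair (F : EtCoh.Ab X) (hT : EtCoh.IsTorsion F) (q : ℕ) :
    Function.Bijective (EtCore.Hpull (pullback.fst f (cq I)) F q) := by
  haveI : CompactSpace X := QuasiCompact.compactSpace_of_compactSpace f
  haveI : QuasiSeparatedSpace X := quasiSeparatedSpace_of_quasiSeparated f
  haveI : CompactSpace ↥(pullback f (cq I)) := QuasiCompact.compactSpace_of_compactSpace (pullback.snd f (cq I))
  haveI : QuasiSeparatedSpace ↥(pullback f (cq I)) :=
    quasiSeparatedSpace_of_quasiSeparated (pullback.snd f (cq I))
  exact bijective_of_killed _ (bijective_killed_of_efface _ (bijective_zero_pair I f)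
    (fun J hJ n hn q hq => haveI := hJ; subsingleton_pair I f J hn q hq)) F hT q

end EtPBCProperLib

end
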