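import Groth.Agent.EtPBCProperLib.Point
import Groth.Agent.EtPBCProperLib.Torsion
import Groth.Agent.S0125
import Groth.Agent.S0620

/-!
# Comparison with a direct image whose higher terms vanish on a subscheme computing the cohomology
-/

set_option autoImplicit false
set_option linter.unusedSectionVars false
set_option linter.style.haveILetI false
set_option backward.isDefEq.respectTransparency false
set_option backward.isDefEq.respectTransparency.types false
set_option maxHeartbeats 1000000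
set_option synthInstance.maxHeartbeats 400000

universe u

open CategoryTheory CategoryTheory.Limits CategoryTheory.Abelian AlgebraicGeometry Opposite
open Groth.Agent Groth.Agent.EtShLib

attribute [local instance] EtSliceLib.pullExact CategoryTheory.Abelian.hasFiniteBiproducts

noncomputable section

namespace EtPBCProperLib

variable {X X₀ W : Scheme.{u}}

theorem isTorsion_push (h : W ⟶ X) [QuasiCompact h] [QuasiSeparated h] {F : EtCoh.Ab W} (hF : EtCoh.IsTorsion F) :
    EtCoh.IsTorsion ((EtCoh.push h).obj F) := by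
  haveI : PreservesLimitsOfSize.{0, 0} (EtCoh.push h) := (EtCoh.pullPushAdj h).rightAdjoint_preservesLimits
  haveI : PreservesFiniteLimits (EtCoh.push h) := PreservesLimitsOfSize.preservesFiniteLimits _
  exact Groth.Agent.EtShLib.isTorsion_of_iso (((EtCoh.push h).rightDerivedZeroIsoSelf).app F)
    (Groth.Agent.EtShLib.isTorsion_rightDerived_push h hF 0)

theorem isZero_Rpush_tor_qcqs (h : W ⟶ X) [QuasiCompact h] [QuasiSeparated h] (J : EtCoh.Ab W) [Injective J] (q : ℕ)
    (hq : 0 < q) : IsZero ((EtCoh.Rpush h q).obj (tor J)) := by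
  refine isZero_of_geomPt_stalks _ fun y => ?_
  let R := HenselLib.SH (X.presheaf.stalk y)
  have hS : Hensel.IsStrictHenselization (X.presheaf.stalk y) R := inferInstance
  haveI := hS.henselian
  haveI : IsSepClosed (IsLocalRing.ResidueField R) := hS.isSepClosure.sep_closed
  refine ⟨R, inferInstance, inferInstance, inferInstance, inferInstance, inferInstance, ?_⟩
  obtain ⟨e⟩ := Groth.Agent.S0620.result h (tor J) y R q
  refine e.addCommGroupIsoToAddEquiv.toEquiv.subsingleton_congr.2 ?_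
  let b := pullback.fst h (Hens2.specOf X y R)
  haveI : CompactSpace ↥(pullback h (Hens2.specOf X y R)) :=
    QuasiCompact.compactSpace_of_compactSpace (pullback.snd h (Hens2.specOf X y R))
  haveI : QuasiSeparatedSpace ↥(pullback h (Hens2.specOf X y R)) :=
    quasiSeparatedSpace_of_quasiSeparated (pullback.snd h (Hens2.specOf X y R))
  haveI : (EtCoh.pull b).IsLeftAdjoint := (EtCoh.pullPushAdj b).isLeftAdjoint
  refine subsingleton_tor J (EtCoh.pull b) q fun n hn => ?_
  obtain ⟨e'⟩ := Groth.Agent.S0620.result h (nTor J n) y R q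
  haveI := AddCommGrpCat.subsingleton_of_isZero ((EtCoh.stalk (Hens2.geomPt X y R)).map_isZero
    (isZero_Rpush_nTor h J hn q hq))
  exact e'.addCommGroupIsoToAddEquiv.toEquiv.subsingleton_congr.1 inferInstance

/-- Truncated comparison. -/
theorem bijective_HofPush_range (h : W ⟶ X) [QuasiCompact h] [QuasiSeparated h] [CompactSpace W]
    [QuasiSeparatedSpace W] (i : X₀ ⟶ X)
    (hi : ∀ (G : EtCoh.Ab X), EtCoh.IsTorsion G → ∀ q, Function.Bijective (EtCore.Hpull i G q)) :
    ∀ (n : ℕ) (K : EtCoh.Ab W), EtCoh.IsTorsion K →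
      (∀ s, 1 ≤ s → s ≤ n → IsZero ((EtCoh.pull i).obj ((EtCoh.Rpush h s).obj K))) →
      (∀ m, m ≤ n → Function.Bijective (EtLim.HofPush h K m)) ∧ Function.Injective (EtLim.HofPush h K (n + 1)) := by
  haveI : PreservesLimitsOfSize.{0, 0} (EtCoh.push h) := (EtCoh.pullPushAdj h).rightAdjoint_preservesLimits
  haveI : PreservesFiniteLimits (EtCoh.push h) := PreservesLimitsOfSize.preservesFiniteLimits _
  haveI : (EtCoh.push h).Additive := { }
  haveI := EtCore.pull_preservesFiniteColimits h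
  haveI : (EtCoh.pull h).Additive := (EtCoh.pullPushAdj h).left_adjoint_additive
  haveI := EtCore.pull_preservesFiniteColimits i
  haveI : (EtCoh.pull i).Additive := (EtCoh.pullPushAdj i).left_adjoint_additive
  intro n
  induction n using Nat.strong_induction_on with
  | _ n ih =>
  intro K hK hR
  obtain ⟨J, hJ, m, hm⟩ := exists_mono_tor hK
  haveI := hJ
  haveI := hm
  let S : ShortComplex (EtCoh.Ab W) := ShortComplex.mk m (cokernel.π m) (cokernel.condition m)
  have hS : S.ShortExact := { exact := ShortComplex.exact_of_g_is_cokernel _ (cokernelIsCokernel _) }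
  let pS := S.map (EtCoh.push h)
  haveI : Mono pS.f := inferInstanceAs (Mono ((EtCoh.push h).map m))
  let S' : ShortComplex (EtCoh.Ab X) := ShortComplex.mk pS.f (cokernel.π pS.f) (cokernel.condition _)
  have hS' : S'.ShortExact := { exact := ShortComplex.exact_of_g_is_cokernel _ (cokernelIsCokernel _) }
  let φ : S'.X₃ ⟶ (EtCoh.push h).obj S.X₃ := cokernel.desc pS.f pS.g pS.zero
  have hπ : S'.g ≫ φ = (EtCoh.push h).map S.g := cokernel.π_desc _ _ _
  have hex : pS.Exact := hS.exact.map_of_mono_of_preservesKernel (EtCoh.push h) hS.mono_f inferInstance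
  haveI : Mono φ := (pS.exact_iff_mono_cokernel_desc).1 hex
  have hTC : EtCoh.IsTorsion S.X₃ := isTorsion_cokernel m (isTorsion_tor J)
  have hTp : EtCoh.IsTorsion ((EtCoh.push h).obj S.X₃) := isTorsion_push h hTC
  have hTZ : EtCoh.IsTorsion S'.X₃ := isTorsion_cokernel pS.f (isTorsion_push h (isTorsion_tor J))
  have hT : ∀ j, Function.Bijective (EtLim.HofPush h (tor J) j) := fun j =>
    Groth.Agent.S14451.result h (tor J) (fun s hs => isZero_Rpush_tor_qcqs h J s hs) j
  have hTW : ∀ j, 0 < j → Subsingleton (EtCoh.H W (tor J) j) := fun j hj =>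
    subsingleton_tor J (𝟭 _) j fun d hd => subsingleton_H_nTor J hd j hj
  -- bijectivity of `φ` on cohomology
  have hφinj : ∀ x : EtCoh.H X S'.X₃ 0, Ext.comp (x : Ext.{u + 1} _ _ 0) (Ext.mk₀ φ) (add_zero 0) = 0 → x = 0 :=
    fun x hx => CovDevLib.eq_zero_of_mono_H0 φ x hx
  have hφ : 1 ≤ n → ∀ j, Function.Bijective fun x : EtCoh.H X S'.X₃ j =>
      (Ext.comp (x : Ext.{u + 1} _ _ j) (Ext.mk₀ φ) (add_zero j) : EtCoh.H X ((EtCoh.push h).obj S.X₃) j) := by
    intro hn j
    obtain ⟨e1⟩ := Groth.Agent.EpsLib.nonempty_iso_one (EtCoh.push h) hS (isZero_Rpush_tor_qcqs h J 1 one_pos)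
    have hz : IsZero (cokernel ((EtCoh.pull i).map ((EtCoh.push h).map S.g))) :=
      IsZero.of_iso (hR 1 le_rfl hn) ((PreservesCokernel.iso (EtCoh.pull i) _).symm ≪≫ (EtCoh.pull i).mapIso e1)
    haveI : Epi ((EtCoh.pull i).map ((EtCoh.push h).map S.g)) :=
      Abelian.epi_of_cokernel_π_eq_zero _ (hz.eq_of_tgt _ _)
    haveI : Epi ((EtCoh.pull i).map S'.g ≫ (EtCoh.pull i).map φ) := by rw [← Functor.map_comp, hπ]; infer_instance
    haveI : Epi ((EtCoh.pull i).map φ) := epi_of_epi ((EtCoh.pull i).map S'.g) _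
    haveI : IsIso ((EtCoh.pull i).map φ) := isIso_of_mono_of_epi _
    have hb := EtAcycLib.bijective_mk₀_iso_postcomp (Z := EtCoh.const X₀ ℤ) (asIso ((EtCoh.pull i).map φ)) j
    refine (Function.Bijective.of_comp_iff' (hi _ hTp j) _).1 ?_
    refine cast (congrArg Function.Bijective (funext fun x => (EtAcycLib.Hpull_postcomp i φ j x).symm)) ?_
    exact hb.comp (hi _ hTZ j)
  -- compatibility with the connecting maps
  let ψ : S'.map (EtCoh.pull h) ⟶ S :=
    { τ₁ := (EtCoh.pullPushAdj h).counit.app S.X₁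
      τ₂ := (EtCoh.pullPushAdj h).counit.app S.X₂
      τ₃ := (EtCoh.pull h).map φ ≫ (EtCoh.pullPushAdj h).counit.app S.X₃
      comm₁₂ := ((EtCoh.pullPushAdj h).counit.naturality S.f).symm
      comm₂₃ := by
        show (EtCoh.pullPushAdj h).counit.app S.X₂ ≫ S.g = (EtCoh.pull h).map S'.g ≫ _ ≫ _
        rw [← Category.assoc ((EtCoh.pull h).map S'.g), ← Functor.map_comp, hπ]
        exact ((EtCoh.pullPushAdj h).counit.naturality S.g).symm }
  have hnat := ShortComplex.ShortExact.extClass_naturality (hS'.map_of_exact (EtCoh.pull h)) hS ψ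
  have key : ∀ (j : ℕ) (e : EtCoh.H X S'.X₃ j), EtLim.HofPush h K (j + 1) (Ext.comp (e : Ext.{u + 1} _ _ j) hS'.extClass rfl) =
      Ext.comp (EtLim.HofPush h S.X₃ j (Ext.comp (e : Ext.{u + 1} _ _ j) (Ext.mk₀ φ) (add_zero j))) hS.extClass rfl := by
    intro j e
    show Ext.comp (EtCore.Hpull h S'.X₁ (j + 1) (Ext.comp (e : Ext.{u + 1} _ _ j) hS'.extClass rfl))
        (Ext.mk₀ ((EtCoh.pullPushAdj h).counit.app K)) (add_zero (j + 1)) =
      Ext.comp (Ext.comp (EtCore.Hpull h _ j (Ext.comp (e : Ext.{u + 1} _ _ j) (Ext.mk₀ φ) (add_zero j)))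
        (Ext.mk₀ ((EtCoh.pullPushAdj h).counit.app S.X₃)) (add_zero j)) hS.extClass rfl
    rw [EtAcycLib.Hpull_delta h hS', EtAcycLib.Hpull_postcomp, Ext.comp_assoc_of_second_deg_zero,
      Ext.comp_assoc_of_third_deg_zero, Ext.comp_assoc_of_second_deg_zero, Ext.mk₀_comp_mk₀_assoc]
    exact congrArg (fun t => Ext.comp (EtCore.Hpull h S'.X₃ j e) t rfl) hnat
  have hg : ∀ (j : ℕ) (t : EtCoh.H X S'.X₂ j),
      EtLim.HofPush h S.X₃ j (Ext.comp (Ext.comp (t : Ext.{u + 1} _ _ j) (Ext.mk₀ S'.g) (add_zero j)) (Ext.mk₀ φ) (add_zero j)) =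
        Ext.comp (EtLim.HofPush h S.X₂ j t) (Ext.mk₀ S.g) (add_zero j) := by
    intro j t
    rw [Ext.comp_assoc_of_second_deg_zero, Ext.mk₀_comp_mk₀, hπ]
    show Ext.comp (EtCore.Hpull h _ j (Ext.comp (t : Ext.{u + 1} _ _ j) (Ext.mk₀ ((EtCoh.push h).map S.g)) (add_zero j)))
        (Ext.mk₀ ((EtCoh.pullPushAdj h).counit.app S.X₃)) (add_zero j) =
      Ext.comp (Ext.comp (EtCore.Hpull h _ j t) (Ext.mk₀ ((EtCoh.pullPushAdj h).counit.app S.X₂)) (add_zero j))
        (Ext.mk₀ S.g) (add_zero j)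
    rw [EtAcycLib.Hpull_postcomp, Ext.comp_assoc_of_second_deg_zero, Ext.comp_assoc_of_second_deg_zero,
      Ext.mk₀_comp_mk₀, Ext.mk₀_comp_mk₀]
    exact congrArg (fun u => Ext.comp (EtCore.Hpull h _ j t) (Ext.mk₀ u) (add_zero j))
      ((EtCoh.pullPushAdj h).counit.naturality S.g)
  have hvan : ∀ s, 1 ≤ s → s + 1 ≤ n → IsZero ((EtCoh.pull i).obj ((EtCoh.Rpush h s).obj S.X₃)) := fun s hs hsn => by
    obtain ⟨e⟩ := Groth.Agent.EpsLib.nonempty_iso_succ (EtCoh.push h) hS s (isZero_Rpush_tor_qcqs h J s hs)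
      (isZero_Rpush_tor_qcqs h J (s + 1) (by omega))
    exact IsZero.of_iso (hR (s + 1) (by omega) hsn) ((EtCoh.pull i).mapIso e)
  have hIH : ∀ j, j + 1 ≤ n → Function.Bijective (EtLim.HofPush h S.X₃ j) := fun j hj =>
    (ih j (by omega) S.X₃ hTC fun s hs hsj => hvan s hs (by omega)).1 j le_rfl
  have hIHinj : ∀ j, j ≤ n → Function.Injective (EtLim.HofPush h S.X₃ j) := fun j hj => by
    rcases j with _ | j
    · exact (bijective_HofPush_zero h S.X₃).1
    · exact (ih j (by omega) S.X₃ hTC fun s hs hsj => hvan s hs (by omega)).2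
  have hinj : ∀ j, j ≤ n → Function.Injective (EtLim.HofPush h K (j + 1)) := by
    intro j hj
    refine (injective_iff_map_eq_zero _).2 fun x hx => ?_
    have h2 : Subsingleton (EtCoh.H X S'.X₂ (j + 1)) :=
      haveI := hTW (j + 1) j.succ_pos
      (hT (j + 1)).1.subsingleton
    obtain ⟨e, rfl⟩ := Ext.covariant_sequence_exact₁ _ hS' (n₁ := j + 1) x (h2.elim _ _) (n₀ := j) rfl
    obtain ⟨t', ht'⟩ := Ext.covariant_sequence_exact₃ _ hS
      (EtLim.HofPush h S.X₃ j (Ext.comp (e : Ext.{u + 1} _ _ j) (Ext.mk₀ φ) (add_zero j))) rfl ((key j e).symm.trans hx)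
    obtain ⟨t, rfl⟩ := (hT j).2 t'
    have h3 := hIHinj j hj ((hg j t).trans ht')
    have h4 : Ext.comp (t : Ext.{u + 1} _ _ j) (Ext.mk₀ S'.g) (add_zero j) = e := by
      rcases Nat.eq_zero_or_pos j with rfl | hj0
      · refine sub_eq_zero.1 (hφinj _ ?_)
        exact (((Ext.mk₀ φ).postcomp _ (add_zero 0)).map_sub _ _).trans (sub_eq_zero.2 h3)
      · exact (hφ (by omega) j).1 h3
    rw [← h4, Ext.comp_assoc_of_second_deg_zero, ShortComplex.ShortExact.comp_extClass, Ext.comp_zero]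
  refine ⟨fun j hj => ?_, hinj n le_rfl⟩
  rcases j with _ | j
  · exact bijective_HofPush_zero h K
  refine ⟨hinj j (by omega), fun y => ?_⟩
  haveI := hTW (j + 1) j.succ_pos
  obtain ⟨z, rfl⟩ := Ext.covariant_sequence_exact₁ _ hS (n₁ := j + 1) y
    (Subsingleton.elim (α := EtCoh.H W (tor J) (j + 1)) _ _) (n₀ := j) rfl
  obtain ⟨e', rfl⟩ := (hIH j hj).2 z
  obtain ⟨e, rfl⟩ := (hφ (by omega) j).2 e'
  exact ⟨Ext.comp (e : Ext.{u + 1} _ _ j) hS'.extClass rfl, key j e⟩

end EtPBCProperLib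

end
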